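/-
The action of the complement on the fixed space of an element of prime order (namespace `Cfsg.Agent.BrauerTuan`).

Main results: `fixedPart` (the character of the complement on the fixed space of `⟨x⟩`), `lin` (its multiplicities),
`fixedPart_eq`, `apply_eq_lin`, `sum_lin`, `sum_normSq_lin`, `lin_unique`.
-/
import Cfsg.Agent.Lib.BrauerFewSylow.Block

set_option autoImplicit false
set_option linter.unusedSectionVars false
set_option linter.style.haveILetI false

open scoped ComplexConjugate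

namespace Cfsg.Agent.BrauerTuan

open Cfsg Cfsg.Agent.Blocks Cfsg.Agent.CyclicDefect Cfsg.Agent.BrauerFewSylow

variable {G : Type*} [Group G] [Finite G] {p : ℕ} [Fact p.Prime] {x : G} {L : Subgroup G}
  {e t : ℕ}

/-- The average over the cosets of `⟨x⟩`. -/
noncomputable def fixedPart (p : ℕ) [Fact p.Prime] (x : G) {L : Subgroup G} (f : G → ℂ) (l : L) : ℂ :=
  (p : ℂ)⁻¹ * ∑ i : ZMod p, f (pw x i * (l : G))

theorem fixedPart_sum {ι : Type*} (s : Finset ι) (c : ι → ℂ) (f : ι → G → ℂ) (l : L) :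
    fixedPart p x (∑ j ∈ s, c j • f j) l = ∑ j ∈ s, c j * fixedPart p x (f j) l := by
  simp only [fixedPart, Finset.sum_apply, Pi.smul_apply, smul_eq_mul]
  rw [Finset.sum_comm, Finset.mul_sum]
  exact Finset.sum_congr rfl fun j _ => by rw [← Finset.mul_sum]; ring

variable (h : Core p x L e t)
include h

theorem fixedPart_ne_one {f : G → ℂ} (hf : IsClassFunction G f) {l : L} (hl : l ≠ 1) :
    fixedPart p x f l = f (l : G) := by
  rw [fixedPart, Finset.sum_congr rfl (g := fun _ => f (l : G)) (fun i _ => ?_), Finset.sum_const, Finset.card_univ,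
    ZMod.card, nsmul_eq_mul, inv_mul_cancel_left₀ (Nat.cast_ne_zero.mpr h.hS.hp.ne_zero)]
  obtain ⟨j, hj⟩ := exists_conj_eq h (m := ⟨pw x i * (l : G), Subgroup.mul_mem _
    (Subgroup.le_normalizer (h.hS.pw_mem i)) (h.hS.hL l.2)⟩) (by rw [ell_mul_pw h]; exact hl)
  rw [ell_mul_pw h] at hj
  rw [show pw x i * (l : G) = pw x j * (l : G) * (pw x j)⁻¹ from hj, hf]

theorem fixedPart_one (χ : IrrCharacter G) : fixedPart p x (χ : G → ℂ) (1 : L) = (m0 h χ : ℂ) := by
  rw [fixedPart]
  simp only [OneMemClass.coe_one, mul_one]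
  rw [sum_apply_pw h, inv_mul_cancel_left₀ (Nat.cast_ne_zero.mpr h.hS.hp.ne_zero)]

variable [Fintype L]

theorem classInner_fixedPart [Fintype (Nr x)] (f : G → ℂ) (μ : IrrCharacter L) :
    classInner (fixedPart p x f) (μ : L → ℂ) =
      classInner (fun m : Nr x => f m) (fun m : Nr x => (μ : L → ℂ) (ell h m)) := by
  classical
  let E : ZMod p × L → Nr x := fun il => ⟨pw x il.1 * (il.2 : G),
    Subgroup.mul_mem _ (Subgroup.le_normalizer (h.hS.pw_mem il.1)) (h.hS.hL il.2.2)⟩
  have hE : Function.Bijective E := by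
    constructor
    · rintro ⟨i, l⟩ ⟨j, l'⟩ he
      have h1 := congrArg (ell h) he
      rw [ell_mul_pw h, ell_mul_pw h] at h1
      subst h1
      exact Prod.ext (h.hS.pw_inj (mul_right_cancel (congrArg (fun z : Nr x => (z : G)) he :))) rfl
    · intro m
      obtain ⟨i, hi⟩ := exists_pw_mul h m
      exact ⟨(i, ell h m), Subtype.ext hi.symm⟩
  rw [classInner, classInner, card_Nr h, h.he,
    ← Fintype.sum_bijective E hE (fun il => f (pw x il.1 * (il.2 : G)) * conj ((μ : L → ℂ) il.2)) _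
      (fun il => by simp only [E, ell_mul_pw h]),
    Fintype.sum_prod_type, Finset.sum_comm, Nat.cast_mul, mul_inv]
  simp only [fixedPart, ← Finset.sum_mul, mul_assoc, ← Finset.mul_sum]

theorem exists_lin (χ : IrrCharacter G) (μ : IrrCharacter L) :
    ∃ a : ℕ, classInner (fixedPart p x (χ : G → ℂ)) (μ : L → ℂ) = a := by
  haveI := Fintype.ofFinite (Nr x)
  rw [classInner_fixedPart h]
  exact Char.IsCharacter.classInner_nat
    (Char.IsCharacter.comp_hom (Char.IsIrrCharacter.isCharacter χ.2) (Nr x).subtype)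
    (Char.IsCharacter.comp_hom (Char.IsIrrCharacter.isCharacter μ.2) (ell h))

/-- The multiplicity of a linear character of the normalizer. -/
noncomputable def lin (χ : IrrCharacter G) (μ : IrrCharacter L) : ℕ := (exists_lin h χ μ).choose

theorem lin_spec (χ : IrrCharacter G) (μ : IrrCharacter L) :
    classInner (fixedPart p x (χ : G → ℂ)) (μ : L → ℂ) = (lin h χ μ : ℂ) := (exists_lin h χ μ).choose_spec

variable [Fintype (IrrCharacter L)]

theorem eq_sum_classInner (F : L → ℂ) (l : L) :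
    ∑ μ : IrrCharacter L, classInner F (μ : L → ℂ) * (μ : L → ℂ) l = F l := by
  classical
  have hmul : ∀ (μ : IrrCharacter L) (k : L), conj ((μ : L → ℂ) k) * (μ : L → ℂ) l = (μ : L → ℂ) (k⁻¹ * l) := by
    intro μ k
    rw [← Char.IsCharacter.apply_inv (Char.IsIrrCharacter.isCharacter μ.2)]
    obtain ⟨φ, hφ⟩ := irr_L_hom h μ
    rw [← hφ, map_mul]
  simp only [classInner, Finset.sum_mul, Finset.mul_sum]
  rw [Finset.sum_comm]
  simp only [mul_assoc, ← Finset.mul_sum, hmul, sum_irr_L h, inv_mul_eq_one]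
  simp only [mul_ite, mul_zero]
  rw [h.he, Finset.sum_ite_eq' Finset.univ l, if_pos (Finset.mem_univ _), mul_comm (F l), inv_mul_cancel_left₀
    (Nat.cast_ne_zero.mpr (Nat.one_le_iff_ne_zero.mp (e_pos h)))]

theorem fixedPart_eq (χ : IrrCharacter G) (l : L) :
    fixedPart p x (χ : G → ℂ) l = ∑ μ : IrrCharacter L, (lin h χ μ : ℂ) * (μ : L → ℂ) l := by
  rw [← eq_sum_classInner h (fixedPart p x (χ : G → ℂ)) l]
  exact Finset.sum_congr rfl fun μ _ => by rw [lin_spec h]

theorem sum_lin (χ : IrrCharacter G) : ∑ μ : IrrCharacter L, lin h χ μ = m0 h χ := by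
  apply Nat.cast_injective (R := ℂ)
  rw [← fixedPart_one h, fixedPart_eq h, Nat.cast_sum]
  exact Finset.sum_congr rfl fun μ _ => by rw [irr_L_one h, mul_one]

theorem apply_eq_lin (χ : IrrCharacter G) {l : L} (hl : l ≠ 1) :
    (χ : G → ℂ) (l : G) = ∑ μ : IrrCharacter L, (lin h χ μ : ℂ) * (μ : L → ℂ) l := by
  rw [← fixedPart_eq h, fixedPart_ne_one h (irr_class χ) hl]

theorem apply_eq_zero_of_m0 {χ : IrrCharacter G} (h0 : m0 h χ = 0) {l : L} (hl : l ≠ 1) :
    (χ : G → ℂ) (l : G) = 0 := by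
  rw [apply_eq_lin h χ hl]
  refine Finset.sum_eq_zero fun μ _ => ?_
  have := sum_lin h χ
  rw [h0, Finset.sum_eq_zero_iff] at this
  rw [this μ (Finset.mem_univ _), Nat.cast_zero, zero_mul]

theorem norm_apply_le (χ : IrrCharacter G) {l : L} (hl : l ≠ 1) : ‖(χ : G → ℂ) (l : G)‖ ≤ m0 h χ := by
  rw [apply_eq_lin h χ hl, ← sum_lin h χ, Nat.cast_sum]
  refine (norm_sum_le _ _).trans (Finset.sum_le_sum fun μ _ => ?_)
  rw [norm_mul, Complex.norm_natCast]
  refine mul_le_of_le_one_right (Nat.cast_nonneg _) ((Char.IsCharacter.norm_le (Char.IsIrrCharacter.isCharacter μ.2) l).trans ?_)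
  rw [irr_L_one h, Complex.one_re]

/-- Coefficients of linear characters are determined by the values. -/
theorem coeff_unique {a b : IrrCharacter L → ℂ}
    (hab : ∀ l : L, ∑ μ, a μ * (μ : L → ℂ) l = ∑ μ, b μ * (μ : L → ℂ) l) (μ : IrrCharacter L) : a μ = b μ := by
  classical
  have key : ∀ c : IrrCharacter L → ℂ, classInner (fun l => ∑ ν, c ν * (ν : L → ℂ) l) (μ : L → ℂ) = c μ := by
    intro c
    have : (fun l => ∑ ν, c ν * (ν : L → ℂ) l) = ∑ ν, c ν • ((ν : IrrCharacter L) : L → ℂ) := by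
      funext l
      simp only [Finset.sum_apply, Pi.smul_apply, smul_eq_mul]
    rw [this, Char.classInner_sum_left, Finset.sum_eq_single μ (fun ν _ hν => ?_) (fun h' => absurd (Finset.mem_univ _) h'),
      Char.classInner_smul_left, Char.classInner_irr_self μ.2, mul_one]
    rw [Char.classInner_smul_left, Char.classInner_irr_of_ne ν.2 μ.2 (fun e' => hν (Subtype.ext e')), mul_zero]
  rw [← key a, ← key b, funext hab]

/-- The squared values on the complement. -/
theorem sum_normSq_lin (χ : IrrCharacter G) :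
    ∑ l : L, ‖fixedPart p x (χ : G → ℂ) l‖ ^ 2 = (e : ℝ) * ∑ μ : IrrCharacter L, (lin h χ μ : ℝ) ^ 2 := by
  classical
  apply Complex.ofReal_injective
  have h1 : classInner (fixedPart p x (χ : G → ℂ)) (fixedPart p x (χ : G → ℂ) : L → ℂ) =
      ∑ μ : IrrCharacter L, (lin h χ μ : ℂ) ^ 2 := by
    have hfun : (fixedPart p x (χ : G → ℂ) : L → ℂ) = ∑ μ : IrrCharacter L, (lin h χ μ : ℂ) • (μ : L → ℂ) := by
      funext l
      simp only [fixedPart_eq h, Finset.sum_apply, Pi.smul_apply, smul_eq_mul]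
    conv_lhs => arg 2; rw [hfun]
    rw [Char.classInner_sum_right]
    refine Finset.sum_congr rfl fun μ _ => ?_
    rw [Char.classInner_smul_right, lin_spec h, Complex.conj_natCast, pow_two]
  rw [Char.classInner_self_eq, h.he] at h1
  push_cast at h1 ⊢
  rw [← h1, mul_inv_cancel_left₀ (Nat.cast_ne_zero.mpr (Nat.one_le_iff_ne_zero.mp (e_pos h)))]

end Cfsg.Agent.BrauerTuan
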