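/-
The members of the principal block at an element of prime order (namespace `Cfsg.Agent.BrauerTuan`).

Main results: `apply_pw_eq`, `sum_pw_mul_conj`, `plus_eq`, `minus_eq`, `exc_eq`, `mN_exc`, `apply_x_*`,
`sum_split`, `sum_mul_apply_x`, `lin_product`.
-/
import Cfsg.Agent.Lib.BrauerTuan.Fixed

set_option autoImplicit false
set_option linter.unusedSectionVars false
set_option linter.style.haveILetI false

open scoped ComplexConjugate

namespace Cfsg.Agent.BrauerTuan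

open Cfsg Cfsg.Agent.Blocks Cfsg.Agent.CyclicDefect Cfsg.Agent.BrauerFewSylow

variable {G : Type*} [Group G] [Finite G] {p : ℕ} [Fact p.Prime] {x : G} {L : Subgroup G}
  {e t : ℕ} (h : Core p x L e t)
include h

theorem apply_pw_eq (χ : IrrCharacter G) (i : ZMod p) :
    (χ : G → ℂ) (pw x i) = ∑ j : ZMod p, (mN h χ j : ℂ) * ζ (i * j) := by
  rw [← dec_one_eq' h (f := (χ : G → ℂ)), dec_eq_sum_mult]
  refine Finset.sum_congr rfl fun j _ => ?_
  rw [multN_spec h.hS]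

theorem sum_pw_mul_conj (χ ψ : IrrCharacter G) :
    ∑ i : ZMod p, (χ : G → ℂ) (pw x i) * conj ((ψ : G → ℂ) (pw x i)) =
      (p : ℂ) * ∑ j : ZMod p, (mN h χ j : ℂ) * mN h ψ j := by
  simp only [apply_pw_eq h, map_sum, map_mul, Complex.conj_natCast, conj_ζ, Finset.sum_mul, Finset.mul_sum]
  rw [Finset.sum_comm]
  refine Finset.sum_congr rfl fun j _ => ?_
  rw [Finset.sum_comm, Finset.sum_eq_single j (fun k _ hk => ?_) (fun h' => absurd (Finset.mem_univ _) h')]
  · rw [Finset.sum_congr rfl (g := fun _ => (mN h χ j : ℂ) * mN h ψ j) (fun i _ => ?_), Finset.sum_const,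
      Finset.card_univ, ZMod.card, nsmul_eq_mul]
    rw [mul_mul_mul_comm, ← ζ_add, add_neg_cancel, ζ_zero, mul_one]
  · rw [Finset.sum_congr rfl (g := fun i => (mN h χ k : ℂ) * mN h ψ j * ζ (i * (k - j))) (fun i _ => ?_),
      ← Finset.mul_sum, sum_ζ_mul, if_neg (sub_ne_zero.mpr hk), mul_zero]
    rw [mul_mul_mul_comm, ← ζ_add, show i * k + -(i * j) = i * (k - j) by ring]

variable {M : Ideal AlgInt} (d : Data h M)
include d

theorem mN_cst {χ : IrrCharacter G} (hB : χ ∈ principalBlock M G) (hr : χ ∉ Set.range d.exc) (u : (ZMod p)ˣ) :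
    (mN h χ (u : ZMod p) : ℤ) = m0 h χ + d.δ χ := by
  have h1 := bInt_eq_sub h.hS χ (oneK x L) (u : ZMod p)
  rw [(d.cst χ hB hr).2] at h1
  show (multN h.hS χ (oneK x L) (u : ZMod p) : ℤ) = multN h.hS χ (oneK x L) 0 + d.δ χ
  omega

open scoped Classical in
theorem mN_exc (c : (ZMod p)ˣ ⧸ U h.hS (oneK x L : K x L → ℂ)) (u : (ZMod p)ˣ) :
    (mN h (d.exc c) (u : ZMod p) : ℤ) = m0 h (d.exc c) +
      if (u : (ZMod p)ˣ ⧸ U h.hS (oneK x L : K x L → ℂ)) = c then d.ε else 0 := by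
  have h1 := bInt_eq_sub h.hS (d.exc c) (oneK x L) (u : ZMod p)
  rw [d.excb] at h1
  show (multN h.hS (d.exc c) (oneK x L) (u : ZMod p) : ℤ) = multN h.hS (d.exc c) (oneK x L) 0 + _
  omega

theorem plus_eq [Fintype (IrrCharacter G)] {χ : IrrCharacter G} (hχ : χ ∈ Plus h d) :
    2 ≤ m0 h χ ∧ charDegree (χ : G → ℂ) + p = p * m0 h χ + 1 := by
  obtain ⟨hB, hr, h1, hδ⟩ := (mem_Plus h d).mp hχ
  have hd2 := deg_ge_two h h1
  have he := excess_cst h d hB hr
  rw [hδ, excess] at he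
  have hp3 := h.hp3
  have hnat : charDegree (χ : G → ℂ) + p = p * m0 h χ + 1 := by
    have : ((charDegree (χ : G → ℂ) + p : ℕ) : ℤ) = ((p * m0 h χ + 1 : ℕ) : ℤ) := by
      push_cast
      omega
    exact_mod_cast this
  refine ⟨?_, hnat⟩
  by_contra hlt
  have : p * m0 h χ ≤ p * 1 := Nat.mul_le_mul_left p (by omega)
  omega

theorem minus_eq [Fintype (IrrCharacter G)] {χ : IrrCharacter G} (hχ : χ ∈ Minus h d) :
    charDegree (χ : G → ℂ) + 1 = p * m0 h χ + p := by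
  obtain ⟨hB, hr, h1, hδ⟩ := (mem_Minus h d).mp hχ
  have he := excess_cst h d hB hr
  rw [hδ, excess] at he
  have hp3 := h.hp3
  have : ((charDegree (χ : G → ℂ) + 1 : ℕ) : ℤ) = ((p * m0 h χ + p : ℕ) : ℤ) := by
    push_cast
    omega
  exact_mod_cast this

theorem exc_eq (c : (ZMod p)ˣ ⧸ U h.hS (oneK x L : K x L → ℂ)) :
    (charDegree (d.exc c : G → ℂ) : ℤ) = p * m0 h (d.exc c) + d.ε * e := by
  have he := excess_exc h d c
  rw [excess] at he
  linarith

theorem apply_x_cst {χ : IrrCharacter G} (hB : χ ∈ principalBlock M G) (hr : χ ∉ Set.range d.exc) :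
    (χ : G → ℂ) x = -(d.δ χ : ℂ) := by
  have h1 : (1 : ZMod p) ≠ 0 := one_ne_zero
  have hh := dec_one_eq' h (f := (χ : G → ℂ)) (1 : ZMod p)
  rw [h.hS.pw_one] at hh
  rw [← hh, dec_eq_sum_bInt h.hS χ (oneK x L) h1,
    ← Finset.add_sum_erase _ _ (Finset.mem_univ (0 : ZMod p)), bInt_zero h.hS, Int.cast_zero, zero_mul, zero_add,
    Finset.sum_congr rfl (g := fun j => (d.δ χ : ℂ) * ζ (j * 1)) (fun j hj => ?_), ← Finset.mul_sum]
  · have h2 := sum_ζ_mul (p := p) 1
    rw [if_neg h1, ← Finset.add_sum_erase _ _ (Finset.mem_univ (0 : ZMod p)), zero_mul, ζ_zero] at h2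
    linear_combination (d.δ χ : ℂ) * h2
  · rw [show bInt h.hS χ (oneK x L) j = d.δ χ from (d.cst χ hB hr).2 (Units.mk0 j (Finset.ne_of_mem_erase hj)),
      one_mul, mul_one]

theorem apply_x_out {χ : IrrCharacter G} (hB : χ ∉ principalBlock M G) : (χ : G → ℂ) x = 0 := by
  have h1 : (1 : ZMod p) ≠ 0 := one_ne_zero
  have hh := dec_one_eq' h (f := (χ : G → ℂ)) (1 : ZMod p)
  rw [h.hS.pw_one] at hh
  rw [← hh, dec_eq_sum_bInt h.hS χ (oneK x L) h1]
  refine Finset.sum_eq_zero fun j _ => ?_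
  rcases eq_or_ne j 0 with rfl | hj
  · rw [bInt_zero h.hS, Int.cast_zero, zero_mul]
  · rw [show bInt h.hS χ (oneK x L) j = 0 from d.out χ hB (Units.mk0 j hj), Int.cast_zero, zero_mul]

theorem sum_apply_x_exc [Fintype ((ZMod p)ˣ ⧸ U h.hS (oneK x L : K x L → ℂ))] :
    ∑ c, (d.exc c : G → ℂ) x = -(d.ε : ℂ) := by
  classical
  have h1 : (1 : ZMod p) ≠ 0 := one_ne_zero
  rw [Finset.sum_congr rfl (g := fun c => ∑ j : ZMod p, (bInt h.hS (d.exc c) (oneK x L) j : ℂ) * ζ (1 * j)) fun c _ => by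
    rw [← dec_eq_sum_bInt h.hS (d.exc c) (oneK x L) h1, dec_one_eq' h (f := (d.exc c : G → ℂ)), h.hS.pw_one]]
  rw [Finset.sum_comm, ← Finset.add_sum_erase _ _ (Finset.mem_univ (0 : ZMod p))]
  simp only [bInt_zero h.hS, Int.cast_zero, zero_mul, Finset.sum_const_zero, zero_add, ← Finset.sum_mul]
  rw [Finset.sum_congr rfl (g := fun j => (d.ε : ℂ) * ζ (j * 1)) (fun j hj => ?_), ← Finset.mul_sum]
  · have h2 := sum_ζ_mul (p := p) 1
    rw [if_neg h1, ← Finset.add_sum_erase _ _ (Finset.mem_univ (0 : ZMod p)), zero_mul, ζ_zero] at h2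
    linear_combination (d.ε : ℂ) * h2
  · rw [one_mul, mul_one]
    congr 1
    set u : (ZMod p)ˣ := Units.mk0 j (Finset.ne_of_mem_erase hj)
    rw [Finset.sum_congr rfl (g := fun c => if (u : (ZMod p)ˣ ⧸ U h.hS (oneK x L : K x L → ℂ)) = c then (d.ε : ℂ) else 0)
      fun c _ => ?_, Finset.sum_ite_eq, if_pos (Finset.mem_univ _)]
    rw [show bInt h.hS (d.exc c) (oneK x L) j = _ from d.excb c u]
    split_ifs <;> simp

variable [Fintype (IrrCharacter G)]

open scoped Classical in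
theorem sum_split [Fintype ((ZMod p)ˣ ⧸ U h.hS (oneK x L : K x L → ℂ))] {A : Type*} [AddCommMonoid A]
    (f : IrrCharacter G → A) :
    ∑ χ, f χ = f (oneG G) + ∑ χ ∈ Plus h d, f χ + ∑ χ ∈ Minus h d, f χ + ∑ c, f (d.exc c) +
      ∑ χ ∈ Finset.univ.filter (fun χ => χ ∉ principalBlock M G), f χ := by
  set Out := Finset.univ.filter (fun χ => χ ∉ principalBlock M G) with hOut
  have hu : Finset.univ = insert (oneG G) (Plus h d ∪ Minus h d ∪ Finset.univ.image d.exc ∪ Out) := by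
    ext χ
    simp only [Finset.mem_univ, true_iff, Finset.mem_insert, Finset.mem_union, hOut, Finset.mem_filter,
      true_and, Finset.mem_image]
    rcases mem_cases h d χ with h1 | h1 | h1 | ⟨c, rfl⟩ | h1
    · exact Or.inl h1
    · exact Or.inr (Or.inl (Or.inl (Or.inl h1)))
    · exact Or.inr (Or.inl (Or.inl (Or.inr h1)))
    · exact Or.inr (Or.inl (Or.inr ⟨c, rfl⟩))
    · exact Or.inr (Or.inr h1)
  have hn1 : oneG G ∉ Plus h d ∪ Minus h d ∪ Finset.univ.image d.exc ∪ Out := by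
    simp only [Finset.mem_union, Finset.mem_image, hOut, Finset.mem_filter, Finset.mem_univ, true_and, not_or]
    exact ⟨⟨⟨fun h1 => ((mem_Plus h d).mp h1).2.2.1 rfl, fun h1 => ((mem_Minus h d).mp h1).2.2.1 rfl⟩,
      fun ⟨c, hc⟩ => exc_ne_one h d c hc⟩, fun h1 => h1 d.oneB⟩
  rw [hu, Finset.sum_insert hn1, Finset.sum_union, Finset.sum_union, Finset.sum_union,
    Finset.sum_image (fun a _ b _ h' => d.inj h')]
  · simp only [add_assoc]
  · exact Finset.disjoint_left.mpr fun χ h1 h2 => by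
      have := ((mem_Plus h d).mp h1).2.2.2
      have := ((mem_Minus h d).mp h2).2.2.2
      omega
  · refine Finset.disjoint_left.mpr fun χ h1 h2 => ?_
    obtain ⟨c, -, rfl⟩ := Finset.mem_image.mp h2
    rcases Finset.mem_union.mp h1 with h1 | h1
    · exact ((mem_Plus h d).mp h1).2.1 ⟨c, rfl⟩
    · exact ((mem_Minus h d).mp h1).2.1 ⟨c, rfl⟩
  · refine Finset.disjoint_left.mpr fun χ h1 h2 => (Finset.mem_filter.mp h2).2 ?_
    rcases Finset.mem_union.mp h1 with h1 | h1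
    · rcases Finset.mem_union.mp h1 with h1 | h1
      · exact ((mem_Plus h d).mp h1).1
      · exact ((mem_Minus h d).mp h1).1
    · obtain ⟨c, -, rfl⟩ := Finset.mem_image.mp h1
      exact d.excB c

/-- A column against the column of `x`, when the exceptional members agree. -/
theorem sum_mul_apply_x (f : IrrCharacter G → ℂ) (c₀ : (ZMod p)ˣ ⧸ U h.hS (oneK x L : K x L → ℂ))
    (hc : ∀ c, f (d.exc c) = f (d.exc c₀)) :
    ∑ χ : IrrCharacter G, f χ * conj ((χ : G → ℂ) x) =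
      f (oneG G) + ∑ χ ∈ Plus h d, f χ - ∑ χ ∈ Minus h d, f χ - (d.ε : ℂ) * f (d.exc c₀) := by
  classical
  haveI := Fintype.ofFinite ((ZMod p)ˣ ⧸ U h.hS (oneK x L : K x L → ℂ))
  rw [sum_split h d]
  have h1 : ∀ χ ∈ Plus h d, f χ * conj ((χ : G → ℂ) x) = f χ := fun χ hχ => by
    obtain ⟨hB, hr, -, hδ⟩ := (mem_Plus h d).mp hχ
    rw [apply_x_cst h d hB hr, hδ]
    simp
  have h2 : ∀ χ ∈ Minus h d, f χ * conj ((χ : G → ℂ) x) = -f χ := fun χ hχ => by
    obtain ⟨hB, hr, -, hδ⟩ := (mem_Minus h d).mp hχ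
    rw [apply_x_cst h d hB hr, hδ]
    simp
  rw [Finset.sum_congr rfl h1, Finset.sum_congr rfl h2, Finset.sum_neg_distrib,
    Finset.sum_eq_zero (s := Finset.univ.filter _) (fun χ hχ => by
      rw [apply_x_out h d (Finset.mem_filter.mp hχ).2, map_zero, mul_zero]),
    Finset.sum_congr rfl (g := fun c => f (d.exc c₀) * conj ((d.exc c : G → ℂ) x)) (fun c _ => by rw [hc c]),
    ← Finset.mul_sum, ← map_sum, sum_apply_x_exc h d,
    show ((oneG G : IrrCharacter G) : G → ℂ) x = 1 from rfl, map_one, map_neg, map_intCast]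
  ring

omit d in
/-- The linear parts of the constituents. -/
theorem lin_product [Fintype L] [Fintype (IrrCharacter L)] {f : G → ℂ} {m : IrrCharacter G → ℕ}
    (hf : f = ∑ χ : IrrCharacter G, (m χ : ℂ) • (χ : G → ℂ)) {g : IrrCharacter L → ℕ}
    (hg : ∀ l : L, fixedPart p x f l = ∑ μ, (g μ : ℂ) * (μ : L → ℂ) l) (μ : IrrCharacter L) :
    ∑ χ : IrrCharacter G, m χ * lin h χ μ = g μ := by
  apply Nat.cast_injective (R := ℂ)
  refine coeff_unique h (a := fun μ => ((∑ χ : IrrCharacter G, m χ * lin h χ μ : ℕ) : ℂ))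
    (b := fun μ => (g μ : ℂ)) (fun l => ?_) μ
  rw [← hg l, hf, fixedPart_sum]
  simp only [fixedPart_eq h, Nat.cast_sum, Nat.cast_mul, Finset.sum_mul, Finset.mul_sum, mul_assoc]
  exact Finset.sum_comm

end Cfsg.Agent.BrauerTuan
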