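/-
General tools for simple groups with a self-centralizing element of prime order (namespace `Cfsg.Agent.BrauerTuan`).

Main results: `apply_eq_zero`, `dvd_index_mul`, `class_mult`, `exists_central_involution`, `centralizer_x`,
`not_dvd_centralizer`, `card_sylow_mul`, `variance_ge`, `exists_conj_L`.
-/
import Cfsg.Agent.Lib.BrauerTuan.Members
import Cfsg.Agent.Lib.Char.ClassMult
import Cfsg.Agent.Lib.CharApp.Burnside

set_option autoImplicit false
set_option linter.unusedSectionVars false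
set_option linter.style.haveILetI false

open scoped ComplexConjugate

namespace Cfsg.Agent.BrauerTuan

open Cfsg Cfsg.Agent.Blocks Cfsg.Agent.CyclicDefect Cfsg.Agent.BrauerFewSylow

variable {G : Type*} [Group G] [Finite G]

/-- The Burnside vanishing criterion in a simple group. -/
theorem apply_eq_zero [IsSimpleGroup G] (hnc : ∃ a b : G, a * b ≠ b * a)
    (hlin : ∀ χ : IrrCharacter G, charDegree (χ : G → ℂ) = 1 → χ = oneG G) {χ : IrrCharacter G} (hχ : χ ≠ oneG G)
    {u : G} (hu : u ≠ 1) (hcop : Nat.Coprime (charDegree (χ : G → ℂ)) (Subgroup.centralizer ({u} : Set G)).index) :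
    (χ : G → ℂ) u = 0 := by
  obtain ⟨k, ρ, hirr, hρ⟩ := χ.2
  haveI := hirr
  have hdeg : charDegree (χ : G → ℂ) = Module.finrank ℂ (Fin k → ℂ) := by
    apply Nat.cast_injective (R := ℂ)
    rw [charDegree_cast, ← hρ, Representation.char_one]
  rw [hdeg] at hcop
  rcases CharApp.zero_or_norm_eq_of_coprime ρ u hcop with h0 | h0
  · rw [← hρ]; exact h0
  exfalso
  obtain ⟨w, hw⟩ := (Char.norm_character_eq_iff ρ u).mp h0
  have hker : Codegree.kerSub χ = ⊥ := by
    rcases IsSimpleGroup.eq_bot_or_eq_top_of_normal (Codegree.kerSub χ) (Codegree.kerSub_normal χ) with h1 | h1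
    · exact h1
    exfalso
    obtain ⟨a, b, hab⟩ := hnc
    have hfun : (χ : G → ℂ) = (charDegree (χ : G → ℂ) : ℂ) • (1 : G → ℂ) := by
      funext g
      rw [Pi.smul_apply, Pi.one_apply, smul_eq_mul, mul_one, charDegree_cast]
      exact Codegree.mem_kerSub.mp (h1 ▸ Subgroup.mem_top g)
    haveI := Fintype.ofFinite G
    have h2 := Char.classInner_irr_self χ.2
    rw [hfun, Char.classInner_smul_left, Char.classInner_smul_right, Char.classInner_irr_self Char.isIrrCharacter_one,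
      mul_one, Complex.conj_natCast, ← Nat.cast_mul, Nat.cast_eq_one] at h2
    exact hχ (hlin χ (Nat.eq_one_of_mul_eq_one_right h2))
  have hcomm : ∀ g : G, g * u = u * g := by
    intro g
    have hm : g * u * g⁻¹ * u⁻¹ ∈ Codegree.kerSub χ := by
      rw [Codegree.mem_kerSub, ← hρ]
      refine congrArg (LinearMap.trace ℂ (Fin k → ℂ)) ?_
      have hc : ρ g * ρ u = ρ u * ρ g := by
        rw [hw, ← Module.End.one_eq_id, mul_smul_comm, smul_mul_assoc, mul_one, one_mul]
      rw [map_mul, map_mul, map_mul, hc, mul_assoc (ρ u), ← map_mul ρ g, mul_inv_cancel, map_one, mul_one,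
        ← map_mul, mul_inv_cancel, map_one]
    rw [hker, Subgroup.mem_bot, mul_inv_eq_one, mul_inv_eq_iff_eq_mul] at hm
    exact hm
  have hcen : u ∈ Subgroup.center G := Subgroup.mem_center_iff.mpr hcomm
  rcases IsSimpleGroup.eq_bot_or_eq_top_of_normal (Subgroup.center G) inferInstance with h1 | h1
  · exact hu (Subgroup.mem_bot.mp (h1 ▸ hcen))
  · obtain ⟨a, b, hab⟩ := hnc
    exact hab (Subgroup.mem_center_iff.mp (h1 ▸ Subgroup.mem_top b) a)

/-- The integrality of the central character at an integral value. -/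
theorem dvd_index_mul (χ : IrrCharacter G) {u : G} {v : ℤ} (hv : (χ : G → ℂ) u = v) :
    (charDegree (χ : G → ℂ) : ℤ) ∣ ((Subgroup.centralizer ({u} : Set G)).index : ℤ) * v := by
  obtain ⟨k, ρ, hirr, hρ⟩ := χ.2
  haveI := hirr
  haveI := Fintype.ofFinite G
  have hdeg : charDegree (χ : G → ℂ) = Module.finrank ℂ (Fin k → ℂ) := by
    apply Nat.cast_injective (R := ℂ)
    rw [charDegree_cast, ← hρ, Representation.char_one]
  have hD : (charDegree (χ : G → ℂ) : ℚ) ≠ 0 := by
    have := charDegree_pos χ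
    positivity
  have h1 := Char.isIntegral_classSize_mul_div ρ u
  rw [hρ, hv, ← hdeg] at h1
  have h2 : IsIntegral ℤ ((((Subgroup.centralizer ({u} : Set G)).index : ℚ) * v / charDegree (χ : G → ℂ) : ℚ)) := by
    refine (isIntegral_algHom_iff ((algebraMap ℚ ℂ).toIntAlgHom) (algebraMap ℚ ℂ).injective).mp ?_
    show IsIntegral ℤ ((algebraMap ℚ ℂ) _)
    simpa using h1
  obtain ⟨z, hz⟩ := IsIntegrallyClosed.isIntegral_iff.mp h2
  refine ⟨z, ?_⟩
  have h3 : (z : ℚ) = ((Subgroup.centralizer ({u} : Set G)).index : ℚ) * v / charDegree (χ : G → ℂ) := hz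
  rw [eq_div_iff hD] at h3
  have h4 : (((Subgroup.centralizer ({u} : Set G)).index : ℤ) * v : ℤ) = ((charDegree (χ : G → ℂ) : ℤ) * z : ℤ) := by
    apply Int.cast_injective (α := ℚ)
    push_cast
    rw [← h3, mul_comm]
  exact h4

/-- The class multiplication coefficient through the centralizers. -/
theorem class_mult [Fintype (IrrCharacter G)] (a b c : G) :
    (Nat.card {q : G × G // IsConj a q.1 ∧ IsConj b q.2 ∧ q.1 * q.2 = c} : ℂ) *
        (Nat.card (Subgroup.centralizer ({a} : Set G)) : ℂ) * (Nat.card (Subgroup.centralizer ({b} : Set G)) : ℂ) =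
      (Nat.card G : ℂ) * ∑ χ : IrrCharacter G,
        (χ : G → ℂ) a * (χ : G → ℂ) b * conj ((χ : G → ℂ) c) / (χ : G → ℂ) 1 := by
  haveI := Fintype.ofFinite G
  rw [Char.class_mult_formula a b c]
  have ha := congrArg (Nat.cast (R := ℂ)) (Char.card_conjugates_mul_card_centralizer a)
  have hb := congrArg (Nat.cast (R := ℂ)) (Char.card_conjugates_mul_card_centralizer b)
  rw [Nat.cast_mul] at ha hb
  have hG : (Nat.card G : ℂ) ≠ 0 := Nat.cast_ne_zero.mpr Nat.card_pos.ne'
  have ha' : (Nat.card {x : G // IsConj a x} : ℂ) * (Nat.card (Subgroup.centralizer ({a} : Set G)) : ℂ) = Nat.card G := ha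
  have hb' : (Nat.card {x : G // IsConj b x} : ℂ) * (Nat.card (Subgroup.centralizer ({b} : Set G)) : ℂ) = Nat.card G := hb
  set S := ∑ χ : IrrCharacter G, (χ : G → ℂ) a * (χ : G → ℂ) b * conj ((χ : G → ℂ) c) / (χ : G → ℂ) 1
  field_simp
  linear_combination S * (Nat.card (Subgroup.centralizer ({b} : Set G)) : ℂ) * (Nat.card {x : G // IsConj b x} : ℂ) * ha' +
    S * (Nat.card G : ℂ) * hb'

/-- An involution with centralizer containing a Sylow `2`-subgroup. -/
theorem exists_central_involution {b m : ℕ} (hG : Nat.card G = 2 ^ b * m) (hm : ¬ 2 ∣ m) (hb : 1 ≤ b) :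
    ∃ u : G, orderOf u = 2 ∧ 2 ^ b ∣ Nat.card (Subgroup.centralizer ({u} : Set G)) := by
  haveI : Fact (Nat.Prime 2) := ⟨Nat.prime_two⟩
  let S : Sylow 2 G := default
  have hS : Nat.card (S : Subgroup G) = 2 ^ b := by
    have hfac : (Nat.card G).factorization 2 = b := by
      rw [hG, Nat.factorization_mul (by positivity) (fun h => hm (by rw [h]; exact dvd_zero 2)),
        Finsupp.add_apply, Nat.Prime.factorization_pow Nat.prime_two, Finsupp.single_eq_same,
        Nat.factorization_eq_zero_of_not_dvd hm, add_zero]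
    rw [S.card_eq_multiplicity, hfac]
  haveI : Nontrivial (S : Subgroup G) := Finite.one_lt_card_iff_nontrivial.mp (by
    rw [hS]; exact Nat.one_lt_two_pow (by omega))
  haveI := S.isPGroup'.center_nontrivial
  have hdvd : 2 ∣ Nat.card (Subgroup.center (S : Subgroup G)) := by
    obtain ⟨k, hk⟩ := (S.isPGroup'.to_subgroup _).exists_card_eq (G := Subgroup.center (S : Subgroup G))
    rcases Nat.eq_zero_or_pos k with h0 | h0
    · have := Finite.one_lt_card (α := Subgroup.center (S : Subgroup G))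
      rw [hk, h0, pow_zero] at this
      omega
    · rw [hk]; exact dvd_pow_self 2 h0.ne'
  obtain ⟨w, hw⟩ := exists_prime_orderOf_dvd_card' 2 hdvd
  refine ⟨((w : (S : Subgroup G)) : G), by rw [Subgroup.orderOf_coe, Subgroup.orderOf_coe, hw], ?_⟩
  rw [← hS]
  refine Subgroup.card_dvd_of_le fun s hs => ?_
  rw [Subgroup.mem_centralizer_singleton_iff]
  exact congrArg Subtype.val (Subgroup.mem_center_iff.mp w.2 ⟨s, hs⟩)

/-- A nonconstant vector has large variance. -/
theorem variance_ge {ι : Type*} [Fintype ι] (a : ι → ℕ) {i j : ι} (hij : a i ≠ a j) :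
    (Fintype.card ι : ℝ) - 1 ≤ (Fintype.card ι : ℝ) * ∑ k, (a k : ℝ) ^ 2 - (∑ k, (a k : ℝ)) ^ 2 := by
  classical
  have hne : i ≠ j := fun e => hij (by rw [e])
  have hexp : ∑ k, ∑ l, ((a k : ℝ) - a l) ^ 2 =
      2 * ((Fintype.card ι : ℝ) * ∑ k, (a k : ℝ) ^ 2 - (∑ k, (a k : ℝ)) ^ 2) := by
    simp only [sub_sq, Finset.sum_add_distrib, Finset.sum_sub_distrib, Finset.sum_const, Finset.card_univ,
      nsmul_eq_mul, ← Finset.mul_sum, ← Finset.sum_mul]
    ring
  have h1 : ∀ q r : ℕ, q ≠ r → (1 : ℝ) ≤ ((q : ℝ) - r) ^ 2 := by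
    intro q r hqr
    have h2 : (1 : ℤ) ≤ ((q : ℤ) - r) ^ 2 := by
      have h3 : (q : ℤ) - r ≠ 0 := sub_ne_zero.mpr (by exact_mod_cast hqr)
      have h4 : 0 < ((q : ℤ) - r) ^ 2 := by positivity
      omega
    exact_mod_cast h2
  have hpair : ∀ k, (1 : ℝ) ≤ ((a k : ℝ) - a i) ^ 2 + ((a k : ℝ) - a j) ^ 2 := by
    intro k
    by_cases hk : a k = a i
    · exact le_add_of_nonneg_of_le (sq_nonneg _) (h1 _ _ (hk ▸ hij))
    · exact le_add_of_le_of_nonneg (h1 _ _ hk) (sq_nonneg _)
  set T : Finset ι := {i, j} with hT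
  have hTc : T.card = 2 := by rw [hT, Finset.card_pair hne]
  have hA : (Fintype.card ι : ℝ) ≤ ∑ k ∈ T, ∑ l, ((a k : ℝ) - a l) ^ 2 := by
    rw [hT, Finset.sum_pair hne, ← Finset.sum_add_distrib]
    refine le_trans (le_of_eq ?_) (Finset.sum_le_sum fun l _ => show (1 : ℝ) ≤ _ from
      le_trans (hpair l) (le_of_eq (by ring)))
    simp
  have hB : ((Fintype.card ι : ℝ) - 2) ≤ ∑ k ∈ Tᶜ, ∑ l, ((a k : ℝ) - a l) ^ 2 := by
    refine le_trans (le_of_eq ?_) (Finset.sum_le_sum fun k _ => show (1 : ℝ) ≤ _ from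
      le_trans (hpair k) ?_)
    · rw [Finset.sum_const, Finset.card_compl, hTc, nsmul_eq_mul, mul_one, Nat.cast_sub]
      · simp
      · rw [← hTc]; exact Finset.card_le_univ T
    · rw [← Finset.sum_pair (f := fun l => ((a k : ℝ) - a l) ^ 2) hne]
      exact Finset.sum_le_sum_of_subset_of_nonneg (Finset.subset_univ _) fun _ _ _ => sq_nonneg _
  have hsum := Finset.sum_add_sum_compl T (fun k => ∑ l, ((a k : ℝ) - a l) ^ 2)
  linarith

variable {p : ℕ} [Fact p.Prime] {x : G} {L : Subgroup G} {e t : ℕ} (h : Core p x L e t)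
include h

theorem centralizer_x {g : G} (hg : Commute x g) : g ∈ Subgroup.zpowers x := by
  obtain ⟨i, k, hk⟩ := h.hS.decomp hg
  haveI := h.hK
  rw [hk, show k = 1 from Subsingleton.elim _ _, OneMemClass.coe_one, OneMemClass.coe_one, mul_one]
  exact h.hS.pw_mem i

theorem not_dvd_centralizer {u : G} (hu : u ≠ 1) (hup : ¬ p ∣ orderOf u) :
    ¬ p ∣ Nat.card (Subgroup.centralizer ({u} : Set G)) := by
  intro hdvd
  obtain ⟨y, hy⟩ := exists_prime_orderOf_dvd_card' p hdvd
  have hyG : orderOf (y : G) = p := by rw [Subgroup.orderOf_coe, hy]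
  have hfac : Nat.card (Subgroup.zpowers x) = p ^ (Nat.card G).factorization p := by
    rw [h.hS.card_zpowers_eq, h.hS.factorization_card, pow_one]
  let P : Sylow p G := Sylow.ofCard (Subgroup.zpowers x) hfac
  obtain ⟨Q, hQ⟩ := (IsPGroup.of_card (n := 1) (show Nat.card (Subgroup.zpowers (y : G)) = p ^ 1 by
    rw [Nat.card_zpowers, hyG, pow_one])).exists_le_sylow
  obtain ⟨a, ha⟩ := MulAction.exists_smul_eq G P Q
  have hyQ : (y : G) ∈ (Q : Subgroup G) := hQ (Subgroup.mem_zpowers _)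
  rw [← ha, Sylow.coe_subgroup_smul] at hyQ
  obtain ⟨w, hw, hwy⟩ := hyQ
  have hwy' : a * w * a⁻¹ = (y : G) := hwy
  obtain ⟨i, rfl⟩ := h.hS.exists_pw hw
  have hi : i ≠ 0 := by
    rintro rfl
    rw [h.hS.pw_zero, mul_one, mul_inv_cancel] at hwy'
    rw [← hwy', orderOf_one] at hyG
    exact h.hS.hp.ne_one hyG.symm
  have hc : (y : G) * u = u * y := Subgroup.mem_centralizer_singleton_iff.mp y.2
  have hc' : Commute (pw x i) (a⁻¹ * u * a) := by
    rw [← hwy'] at hc
    calc pw x i * (a⁻¹ * u * a) = a⁻¹ * ((a * pw x i * a⁻¹) * u) * a := by group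
      _ = a⁻¹ * (u * (a * pw x i * a⁻¹)) * a := by rw [hc]
      _ = a⁻¹ * u * a * pw x i := by group
  have hmem := centralizer_x h ((h.hS.commute_pw_iff hi).mp hc')
  have ho : orderOf (a⁻¹ * u * a) = orderOf u := by
    rw [show a⁻¹ * u * a = a⁻¹ * u * a⁻¹⁻¹ by rw [inv_inv], SecondMain.orderOf_conj]
  have hd := orderOf_dvd_natCard (⟨_, hmem⟩ : Subgroup.zpowers x)
  rw [← Subgroup.orderOf_coe, Nat.card_zpowers, h.hS.hx, ho] at hd
  rcases (Nat.dvd_prime h.hS.hp).mp hd with h1 | h1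
  · exact hu (orderOf_eq_one_iff.mp h1)
  · exact hup (h1 ▸ dvd_rfl)

theorem card_sylow_mul : Nat.card (Sylow p G) * (e * p) = Nat.card G := by
  have hfac : Nat.card (Subgroup.zpowers x) = p ^ (Nat.card G).factorization p := by
    rw [h.hS.card_zpowers_eq, h.hS.factorization_card, pow_one]
  let P : Sylow p G := Sylow.ofCard (Subgroup.zpowers x) hfac
  have hP : (P : Subgroup G) = Subgroup.zpowers x := Sylow.coe_ofCard _ _
  rw [Sylow.card_eq_index_normalizer P, ← card_Nr h, mul_comm]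
  show _ * (Subgroup.normalizer ((P : Subgroup G) : Set G)).index = _
  rw [hP]
  exact Subgroup.card_mul_index _

/-- An involution inverting `x` is conjugate into the complement. -/
theorem exists_conj_L {u a b : G} (hu : orderOf u = 2) (ha : IsConj u a) (hb : IsConj u b) (hab : a * b = x) :
    ∃ j : L, orderOf (j : G) = 2 ∧ IsConj u (j : G) := by
  have hsq : ∀ g : G, IsConj u g → g * g = 1 ∧ orderOf g = 2 := fun g hg => by
    obtain ⟨c, rfl⟩ := isConj_iff.mp hg
    have ho : orderOf (c * u * c⁻¹) = 2 := by rw [SecondMain.orderOf_conj, hu]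
    refine ⟨?_, ho⟩
    rw [← pow_two, ← ho, pow_orderOf_eq_one]
  obtain ⟨ha2, hao⟩ := hsq a ha
  obtain ⟨hb2, -⟩ := hsq b hb
  have hinv : a * x * a⁻¹ = x⁻¹ := by
    rw [← hab, mul_inv_rev, inv_eq_of_mul_eq_one_right ha2, inv_eq_of_mul_eq_one_right hb2, ← mul_assoc, ha2, one_mul]
  have haN : a ∈ Nr x := by
    refine Subgroup.mem_normalizer_fintype fun z hz => ?_
    obtain ⟨i, rfl⟩ := Subgroup.mem_zpowers_iff.mp hz
    rw [← conj_zpow, hinv]
    exact Subgroup.zpow_mem _ (inv_mem (Subgroup.mem_zpowers x)) i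
  have hell : ell h ⟨a, haN⟩ ≠ 1 := by
    intro h1
    have hd := orderOf_dvd_natCard (⟨a, (ell_eq_one_iff h _).mp h1⟩ : Subgroup.zpowers x)
    rw [← Subgroup.orderOf_coe, Nat.card_zpowers, h.hS.hx, hao] at hd
    have h2 := (Nat.prime_dvd_prime_iff_eq Nat.prime_two h.hS.hp).mp hd
    have := h.hp3
    omega
  obtain ⟨i, hi⟩ := exists_conj_eq h hell
  have hi' : a = pw x i * (ell h ⟨a, haN⟩ : G) * (pw x i)⁻¹ := hi
  refine ⟨ell h ⟨a, haN⟩, ?_, ha.trans (IsConj.symm (isConj_iff.mpr ⟨pw x i, hi'.symm⟩))⟩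
  rw [← hao]
  conv_rhs => rw [hi']
  rw [SecondMain.orderOf_conj]

end Cfsg.Agent.BrauerTuan
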