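/-
Products of two exceptional characters (namespace `Cfsg.Agent.BrauerTuan`).

Main results: `excProd`, `pm` (multiplicities), `pm_oneG`, `deg_split`, `excess_split`, `sq_split`, `sq_le`,
`exc_agree`.
-/
import Cfsg.Agent.Lib.BrauerTuan.Members

set_option autoImplicit false
set_option linter.unusedSectionVars false
set_option linter.style.haveILetI false

open scoped ComplexConjugate

namespace Cfsg.Agent.BrauerTuan

open Cfsg Cfsg.Agent.Blocks Cfsg.Agent.CyclicDefect Cfsg.Agent.BrauerFewSylow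

variable {G : Type*} [Group G] [Fintype G] {p : ℕ} [Fact p.Prime] {x : G} {L : Subgroup G}
  {e t : ℕ} (h : Core p x L e t) {M : Ideal AlgInt} (d : Data h M)
  [Fintype (IrrCharacter G)]
include h d

theorem exc_agree (c c' : (ZMod p)ˣ ⧸ U h.hS (oneK x L : K x L → ℂ)) {g : G} (hg : ¬ p ∣ orderOf g) :
    (d.exc c : G → ℂ) g = (d.exc c' : G → ℂ) g := by
  have h1 := rel_apply h d hg c
  have h2 := rel_apply h d hg c'
  rcases d.hε with h3 | h3 <;> rw [h3] at h1 h2 <;> push_cast at h1 h2
  · linear_combination h1 - h2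
  · linear_combination h2 - h1

theorem exc_deg_eq (c c' : (ZMod p)ˣ ⧸ U h.hS (oneK x L : K x L → ℂ)) :
    charDegree (d.exc c : G → ℂ) = charDegree (d.exc c' : G → ℂ) :=
  Nat.cast_injective (R := ℂ) (by
    rw [charDegree_cast, charDegree_cast, exc_agree h d c c' (by rw [orderOf_one]; exact h.hS.hp.not_dvd_one)])

/-- The product of two exceptional characters. -/
noncomputable def excProd (c c' : (ZMod p)ˣ ⧸ U h.hS (oneK x L : K x L → ℂ)) : G → ℂ :=
  fun g => (d.exc c : G → ℂ) g * conj ((d.exc c' : G → ℂ) g)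

theorem isCharacter_excProd (c c' : (ZMod p)ˣ ⧸ U h.hS (oneK x L : K x L → ℂ)) :
    IsCharacter G (excProd h d c c') :=
  Char.IsCharacter.mul (Char.IsIrrCharacter.isCharacter (d.exc c).2)
    (Char.IsCharacter.conj (Char.IsIrrCharacter.isCharacter (d.exc c').2))

/-- The multiplicities in the product. -/
noncomputable def pm (c c' : (ZMod p)ˣ ⧸ U h.hS (oneK x L : K x L → ℂ)) : IrrCharacter G → ℕ :=
  (Char.IsCharacter.decompose (isCharacter_excProd h d c c')).choose

theorem excProd_eq (c c' : (ZMod p)ˣ ⧸ U h.hS (oneK x L : K x L → ℂ)) :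
    excProd h d c c' = ∑ χ : IrrCharacter G, (pm h d c c' χ : ℂ) • (χ : G → ℂ) :=
  (Char.IsCharacter.decompose (isCharacter_excProd h d c c')).choose_spec.1

theorem pm_spec (c c' : (ZMod p)ˣ ⧸ U h.hS (oneK x L : K x L → ℂ)) (χ : IrrCharacter G) :
    classInner (excProd h d c c') (χ : G → ℂ) = (pm h d c c' χ : ℂ) :=
  (Char.IsCharacter.decompose (isCharacter_excProd h d c c')).choose_spec.2 χ

open scoped Classical in
theorem pm_oneG (c c' : (ZMod p)ˣ ⧸ U h.hS (oneK x L : K x L → ℂ)) :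
    pm h d c c' (oneG G) = if c = c' then 1 else 0 := by
  apply Nat.cast_injective (R := ℂ)
  rw [← pm_spec h d]
  have hfun : classInner (excProd h d c c') ((oneG G : IrrCharacter G) : G → ℂ) =
      classInner (d.exc c : G → ℂ) (d.exc c' : G → ℂ) := by
    simp only [classInner, excProd]
    refine congrArg _ (Finset.sum_congr rfl fun g _ => ?_)
    rw [Pi.one_apply, map_one, mul_one]
  rw [hfun]
  split_ifs with hc
  · subst hc; rw [Char.classInner_irr_self (d.exc c).2, Nat.cast_one]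
  · rw [Char.classInner_irr_of_ne (d.exc c).2 (d.exc c').2 (fun e' => hc (d.inj (Subtype.ext e'))), Nat.cast_zero]

variable [Fintype ((ZMod p)ˣ ⧸ U h.hS (oneK x L : K x L → ℂ))]

open scoped Classical in
theorem deg_split (c c' : (ZMod p)ˣ ⧸ U h.hS (oneK x L : K x L → ℂ)) :
    charDegree (d.exc c : G → ℂ) * charDegree (d.exc c' : G → ℂ) =
      pm h d c c' (oneG G) + ∑ χ ∈ Plus h d, pm h d c c' χ * charDegree (χ : G → ℂ) +
        ∑ χ ∈ Minus h d, pm h d c c' χ * charDegree (χ : G → ℂ) +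
        ∑ a, pm h d c c' (d.exc a) * charDegree (d.exc a : G → ℂ) +
        ∑ χ ∈ Finset.univ.filter (fun χ => χ ∉ principalBlock M G), pm h d c c' χ * charDegree (χ : G → ℂ) := by
  have h1 : ∑ χ : IrrCharacter G, pm h d c c' χ * charDegree (χ : G → ℂ) =
      charDegree (d.exc c : G → ℂ) * charDegree (d.exc c' : G → ℂ) := by
    apply Nat.cast_injective (R := ℂ)
    have h2 := congrFun (excProd_eq h d c c') 1
    simp only [excProd, Finset.sum_apply, Pi.smul_apply, smul_eq_mul, ← charDegree_cast, Complex.conj_natCast] at h2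
    push_cast
    exact h2.symm
  rw [← h1, sum_split h d]
  rw [show charDegree ((oneG G : IrrCharacter G) : G → ℂ) = 1 from
    Nat.cast_injective (R := ℂ) (by rw [charDegree_cast, Nat.cast_one]; rfl), mul_one]

open scoped Classical in
theorem excess_split (c c' : (ZMod p)ˣ ⧸ U h.hS (oneK x L : K x L → ℂ)) :
    (p : ℤ) * ∑ j : ZMod p, (mN h (d.exc c) j : ℤ) * mN h (d.exc c') j -
        (charDegree (d.exc c : G → ℂ) : ℤ) * charDegree (d.exc c' : G → ℂ) =
      ((p - 1 : ℕ) : ℤ) * ((pm h d c c' (oneG G) : ℤ) + ∑ χ ∈ Plus h d, (pm h d c c' χ : ℤ) -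
        ∑ χ ∈ Minus h d, (pm h d c c' χ : ℤ)) - d.ε * (e : ℤ) * ∑ a, (pm h d c c' (d.exc a) : ℤ) := by
  have h1 : ∑ χ : IrrCharacter G, (pm h d c c' χ : ℤ) * excess h χ =
      (p : ℤ) * ∑ j : ZMod p, (mN h (d.exc c) j : ℤ) * mN h (d.exc c') j -
        (charDegree (d.exc c : G → ℂ) : ℤ) * charDegree (d.exc c' : G → ℂ) := by
    apply Int.cast_injective (α := ℂ)
    push_cast
    rw [← sum_excess h (excProd_eq h d c c')]
    simp only [excProd]
    rw [sum_pw_mul_conj h, ← charDegree_cast, ← charDegree_cast, Complex.conj_natCast]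
  rw [← h1, sum_split h d, excess_oneG h d,
    Finset.sum_congr rfl (g := fun χ => ((p - 1 : ℕ) : ℤ) * (pm h d c c' χ : ℤ)) (fun χ hχ => by
      obtain ⟨hB, hr, -, hδ⟩ := (mem_Plus h d).mp hχ
      rw [excess_cst h d hB hr, hδ]; ring),
    Finset.sum_congr (s₁ := Minus h d) rfl (g := fun χ => -(((p - 1 : ℕ) : ℤ) * (pm h d c c' χ : ℤ))) (fun χ hχ => by
      obtain ⟨hB, hr, -, hδ⟩ := (mem_Minus h d).mp hχ
      rw [excess_cst h d hB hr, hδ]; ring),
    Finset.sum_congr (s₂ := Finset.univ) rfl (g := fun a => -(d.ε * (e : ℤ)) * (pm h d c c' (d.exc a) : ℤ)) (fun a _ => by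
      rw [excess_exc h d]; ring),
    Finset.sum_eq_zero (s := Finset.univ.filter _) (fun χ hχ => by
      rw [excess_out h d (Finset.mem_filter.mp hχ).2, mul_zero]),
    Finset.sum_neg_distrib, ← Finset.mul_sum, ← Finset.mul_sum, ← Finset.mul_sum]
  ring

/-- The norm of a mixed product is bounded by the two squares. -/
theorem sq_le (c c' : (ZMod p)ˣ ⧸ U h.hS (oneK x L : K x L → ℂ)) :
    2 * ∑ χ : IrrCharacter G, pm h d c c' χ ^ 2 ≤
      ∑ χ : IrrCharacter G, pm h d c c χ ^ 2 + ∑ χ : IrrCharacter G, pm h d c' c' χ ^ 2 := by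
  have hin : ∀ a b a' b', classInner (excProd h d a b) (excProd h d a' b') =
      ((∑ χ : IrrCharacter G, pm h d a b χ * pm h d a' b' χ : ℕ) : ℂ) := by
    intro a b a' b'
    conv_lhs => arg 2; rw [excProd_eq h d]
    rw [Char.classInner_sum_right, Nat.cast_sum]
    refine Finset.sum_congr rfl fun χ _ => ?_
    rw [Char.classInner_smul_right, pm_spec h d, Complex.conj_natCast, Nat.cast_mul, mul_comm]
  have heq : classInner (excProd h d c c') (excProd h d c c') = classInner (excProd h d c c) (excProd h d c' c') := by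
    simp only [classInner, excProd]
    refine congrArg _ (Finset.sum_congr rfl fun g _ => ?_)
    simp only [map_mul, Complex.conj_conj]
    ring
  rw [hin, hin, Nat.cast_inj] at heq
  have hsq : ∑ χ : IrrCharacter G, pm h d c c' χ ^ 2 = ∑ χ : IrrCharacter G, pm h d c c χ * pm h d c' c' χ := by
    rw [← heq]; exact Finset.sum_congr rfl fun χ _ => by rw [pow_two]
  rw [hsq, Finset.mul_sum, ← Finset.sum_add_distrib]
  refine Finset.sum_le_sum fun χ _ => ?_
  rw [← mul_assoc]
  exact two_mul_le_add_sq (pm h d c c χ) (pm h d c' c' χ)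

end Cfsg.Agent.BrauerTuan
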