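/-
An exceptional degree `(p - 1) / 2` (namespace `Cfsg.Agent.BrauerTuan`).

Main results: `half_block` (the principal block is known), `half_card` (`p + 1` Sylow subgroups).
-/
import Cfsg.Agent.Lib.BrauerTuan.Products
import Cfsg.Agent.Lib.BrauerTuan.General

set_option autoImplicit false
set_option linter.unusedSectionVars false
set_option linter.style.haveILetI false

open scoped ComplexConjugate

namespace Cfsg.Agent.BrauerTuan

open Cfsg Cfsg.Agent.Blocks Cfsg.Agent.CyclicDefect Cfsg.Agent.BrauerFewSylow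

variable {G : Type*} [Group G] [Fintype G] {p : ℕ} [Fact p.Prime] {x : G} {L : Subgroup G}
  {e t : ℕ} (h : Core p x L e t) {M : Ideal AlgInt} (d : Data h M)
  [Fintype (IrrCharacter G)] [Fintype (IrrCharacter L)] [Fintype L]
  [Fintype ((ZMod p)ˣ ⧸ U h.hS (oneK x L : K x L → ℂ))]
  (hε : d.ε = 1) (hp : p = 2 * e + 1) (he2 : 2 ≤ e) (hdeg : ∀ c, charDegree (d.exc c : G → ℂ) = e)
include h d hε hp he2 hdeg

theorem half_m0 (c : (ZMod p)ˣ ⧸ U h.hS (oneK x L : K x L → ℂ)) : m0 h (d.exc c) = 0 := by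
  have h1 := exc_eq h d c
  rw [hε, hdeg, one_mul] at h1
  have h2 : (p : ℤ) * m0 h (d.exc c) = 0 := by omega
  rcases mul_eq_zero.mp h2 with h3 | h3 <;> omega

open scoped Classical in
theorem half_mN (c : (ZMod p)ˣ ⧸ U h.hS (oneK x L : K x L → ℂ)) (u : (ZMod p)ˣ) :
    mN h (d.exc c) (u : ZMod p) = if (u : (ZMod p)ˣ ⧸ U h.hS (oneK x L : K x L → ℂ)) = c then 1 else 0 := by
  have h1 := mN_exc h d c u
  rw [half_m0 h d hε hp he2 hdeg c, hε] at h1
  split_ifs at h1 ⊢ <;> omega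

open scoped Classical in
theorem half_pair (c c' : (ZMod p)ˣ ⧸ U h.hS (oneK x L : K x L → ℂ)) :
    ∑ j : ZMod p, mN h (d.exc c) j * mN h (d.exc c') j = if c = c' then e else 0 := by
  have h1 : ∀ j, mN h (d.exc c) j * mN h (d.exc c') j = if c = c' then mN h (d.exc c) j else 0 := by
    intro j
    rcases eq_or_ne j 0 with rfl | hj
    · rw [show mN h (d.exc c) 0 = m0 h (d.exc c) from rfl, half_m0 h d hε hp he2 hdeg c]
      simp
    · rw [show j = ((Units.mk0 j hj : (ZMod p)ˣ) : ZMod p) from rfl, half_mN h d hε hp he2 hdeg,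
        half_mN h d hε hp he2 hdeg]
      split_ifs with a b <;> simp_all
  rw [Finset.sum_congr rfl fun j _ => h1 j]
  split_ifs with hc
  · rw [← charDegree_eq_sum' h, hdeg]
  · exact Finset.sum_const_zero

theorem half_apply_L (c : (ZMod p)ˣ ⧸ U h.hS (oneK x L : K x L → ℂ)) {l : L} (hl : l ≠ 1) :
    (d.exc c : G → ℂ) (l : G) = 0 :=
  apply_eq_zero_of_m0 h (half_m0 h d hε hp he2 hdeg c) hl

theorem half_lin (c : (ZMod p)ˣ ⧸ U h.hS (oneK x L : K x L → ℂ)) (μ : IrrCharacter L) :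
    ∑ χ : IrrCharacter G, pm h d c c χ * lin h χ μ = 1 := by
  classical
  refine lin_product h (excProd_eq h d c c) (g := fun _ => 1) (fun l => ?_) μ
  simp only [Nat.cast_one, one_mul]
  rw [sum_irr_L h]
  split_ifs with hl
  · subst hl
    rw [fixedPart]
    simp only [OneMemClass.coe_one, mul_one, excProd]
    rw [sum_pw_mul_conj h, inv_mul_cancel_left₀ (Nat.cast_ne_zero.mpr h.hS.hp.ne_zero)]
    exact_mod_cast (half_pair h d hε hp he2 hdeg c c).trans (if_pos rfl)
  · rw [fixedPart_ne_one h (Char.IsCharacter.isClassFunction (isCharacter_excProd h d c c)) hl, excProd,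
      half_apply_L h d hε hp he2 hdeg c hl, zero_mul]

theorem half_diag (c : (ZMod p)ˣ ⧸ U h.hS (oneK x L : K x L → ℂ)) :
    2 * ∑ χ ∈ Plus h d, pm h d c c χ + 1 = e ∧
      (∀ χ ∈ Plus h d, pm h d c c χ ≤ 1 ∧ (pm h d c c χ ≠ 0 → charDegree (χ : G → ℂ) = p + 1 ∧ m0 h χ = 2)) ∧
      (∀ χ : IrrCharacter G, χ ≠ oneG G → χ ∉ Plus h d → pm h d c c χ = 0) ∧
      2 * ∑ χ : IrrCharacter G, pm h d c c χ ^ 2 = e + 1 := by
  classical
  have hd := deg_split h d c c
  have hx := excess_split h d c c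
  rw [hdeg, pm_oneG h d, if_pos rfl] at hd hx
  rw [hε, one_mul] at hx
  have hpair : ∑ j : ZMod p, (mN h (d.exc c) j : ℤ) * mN h (d.exc c) j = (e : ℤ) := by
    exact_mod_cast (half_pair h d hε hp he2 hdeg c c).trans (if_pos rfl)
  rw [hpair, show ((p - 1 : ℕ) : ℤ) = 2 * e by omega, show (p : ℤ) = 2 * e + 1 by omega] at hx
  set P := ∑ χ ∈ Plus h d, pm h d c c χ with hP
  set Mi := ∑ χ ∈ Minus h d, pm h d c c χ with hMi
  set E := ∑ a, pm h d c c (d.exc a) with hE
  rw [← Nat.cast_sum, ← Nat.cast_sum, ← Nat.cast_sum, ← hP, ← hMi, ← hE] at hx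
  push_cast at hx
  have hx' : 2 * (P : ℤ) = (e : ℤ) - 1 + 2 * Mi + E := by
    have : (e : ℤ) * (2 * (P : ℤ) - ((e : ℤ) - 1 + 2 * Mi + E)) = 0 := by linear_combination -hx
    rcases mul_eq_zero.mp this with h3 | h3 <;> omega
  have hE' : ∑ a, pm h d c c (d.exc a) * charDegree (d.exc a : G → ℂ) = E * e := by
    rw [hE, Finset.sum_mul]; exact Finset.sum_congr rfl fun a _ => by rw [hdeg]
  have hPD : (∑ χ ∈ Plus h d, pm h d c c χ * (charDegree (χ : G → ℂ) - (p + 1))) + P * (p + 1) =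
      ∑ χ ∈ Plus h d, pm h d c c χ * charDegree (χ : G → ℂ) := by
    rw [hP, Finset.sum_mul, ← Finset.sum_add_distrib]
    refine Finset.sum_congr rfl fun χ hχ => ?_
    obtain ⟨hm, hD⟩ := plus_eq h d hχ
    rw [← mul_add, Nat.sub_add_cancel]
    have := Nat.mul_le_mul_left p hm
    omega
  have hMD : Mi * (p - 1) ≤ ∑ χ ∈ Minus h d, pm h d c c χ * charDegree (χ : G → ℂ) := by
    rw [hMi, Finset.sum_mul]
    exact Finset.sum_le_sum fun χ hχ => Nat.mul_le_mul_left _ (by have := minus_eq h d hχ; omega)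
  rw [hE', ← hPD] at hd
  set X := ∑ χ ∈ Plus h d, pm h d c c χ * (charDegree (χ : G → ℂ) - (p + 1)) with hX
  set Y := ∑ χ ∈ Minus h d, pm h d c c χ * charDegree (χ : G → ℂ) with hY
  set O := ∑ χ ∈ Finset.univ.filter (fun χ => χ ∉ principalBlock M G), pm h d c c χ * charDegree (χ : G → ℂ) with hO
  have hp2 : p - 1 = 2 * e := by omega
  rw [hp2] at hMD
  rw [show P * (p + 1) = 2 * P * (e + 1) by rw [hp]; ring] at hd
  have hall : 2 * Mi + E = 0 ∧ X = 0 ∧ Y = 0 ∧ O = 0 := by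
    have h1 : 2 * P + 1 = e + (2 * Mi + E) := by omega
    have h2 : (2 * P + 1) * (e + 1) = (e + (2 * Mi + E)) * (e + 1) := by rw [h1]
    rcases Nat.eq_zero_or_pos (2 * Mi + E) with hz | hz
    · rw [hz] at h2
      have : Mi = 0 := by omega
      have hE0 : E = 0 := by omega
      rw [hE0] at hd
      refine ⟨hz, ?_⟩
      have : e * e + e = (2 * P + 1) * (e + 1) := by rw [h2]; ring
      rw [add_mul, one_mul] at this
      omega
    · exfalso
      nlinarith
  obtain ⟨hz, hX0, hY0, hO0⟩ := hall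
  have hsum : 2 * P + 1 = e := by omega
  have hle1 : ∀ χ ∈ Plus h d, pm h d c c χ ≤ 1 ∧ (pm h d c c χ ≠ 0 → charDegree (χ : G → ℂ) = p + 1 ∧ m0 h χ = 2) := by
    intro χ hχ
    obtain ⟨hm, hD⟩ := plus_eq h d hχ
    have hdeg' : pm h d c c χ ≠ 0 → charDegree (χ : G → ℂ) = p + 1 ∧ m0 h χ = 2 := fun h0 => by
      have h1 := (Finset.sum_eq_zero_iff.mp hX0) χ hχ
      rcases Nat.mul_eq_zero.mp h1 with h2 | h2
      · exact absurd h2 h0
      · have h3 : m0 h χ = 2 := by
          by_contra hne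
          have := Nat.mul_le_mul_left p (show 3 ≤ m0 h χ by omega)
          omega
        rw [h3] at hD
        omega
    refine ⟨?_, hdeg'⟩
    by_contra hlt
    obtain ⟨μ, hμ⟩ : ∃ μ, lin h χ μ ≠ 0 := by
      by_contra hcon
      push Not at hcon
      have := sum_lin h χ
      rw [Finset.sum_eq_zero fun μ _ => hcon μ] at this
      omega
    have h1 := half_lin h d hε hp he2 hdeg c μ
    have h2 := Finset.single_le_sum (f := fun ψ : IrrCharacter G => pm h d c c ψ * lin h ψ μ)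
      (fun _ _ => Nat.zero_le _) (Finset.mem_univ χ)
    have h3 := Nat.mul_le_mul (show 2 ≤ pm h d c c χ by omega) (show 1 ≤ lin h χ μ by omega)
    omega
  have hzero : ∀ χ : IrrCharacter G, χ ≠ oneG G → χ ∉ Plus h d → pm h d c c χ = 0 := by
    intro χ h1 h2
    rcases mem_cases h d χ with h3 | h3 | h3 | ⟨a, rfl⟩ | h3
    · exact absurd h3 h1
    · exact absurd h3 h2
    · rcases Nat.mul_eq_zero.mp (Finset.sum_eq_zero_iff.mp hY0 χ h3) with h4 | h4
      · exact h4
      · have := deg_pos h χ; omega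
    · exact Finset.sum_eq_zero_iff.mp (show E = 0 by omega) a (Finset.mem_univ _)
    · rcases Nat.mul_eq_zero.mp (Finset.sum_eq_zero_iff.mp hO0 χ (Finset.mem_filter.mpr ⟨Finset.mem_univ _, h3⟩))
        with h4 | h4
      · exact h4
      · have := deg_pos h χ; omega
  refine ⟨hsum, hle1, hzero, ?_⟩
  rw [← Finset.add_sum_erase _ _ (Finset.mem_univ (oneG G)), pm_oneG h d, if_pos rfl, one_pow,
    ← Finset.sum_subset (s₁ := Plus h d) (fun χ hχ => Finset.mem_erase.mpr ⟨((mem_Plus h d).mp hχ).2.2.1, Finset.mem_univ _⟩)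
      (fun χ hχ h2 => by rw [hzero χ (Finset.ne_of_mem_erase hχ) h2]; rfl),
    Finset.sum_congr rfl (g := fun χ => pm h d c c χ) (fun χ hχ => by
      have := (hle1 χ hχ).1
      interval_cases pm h d c c χ <;> rfl)]
  omega

open scoped Classical in
theorem half_block :
    Odd e ∧ 1 ≤ (Plus h d).card ∧ (∀ χ ∈ Plus h d, charDegree (χ : G → ℂ) = p + 1 ∧ m0 h χ = 2) ∧
      (∀ χ ∈ Minus h d, charDegree (χ : G → ℂ) + 1 = p ∧ m0 h χ = 0) ∧
      2 * (Plus h d).card + 1 = e ∧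
      ∀ μ : IrrCharacter L, ∑ χ ∈ Plus h d, lin h χ μ + lin h (oneG G) μ = 1 := by
  have ht : Nat.card ((ZMod p)ˣ ⧸ U h.hS (oneK x L : K x L → ℂ)) = 2 := by
    rw [card_T h]
    have h1 := h.hte
    exact Nat.eq_of_mul_eq_mul_right (show 0 < e by omega) (by omega)
  rw [Nat.card_eq_fintype_card] at ht
  obtain ⟨c, c', hcc⟩ := Fintype.exists_pair_of_one_lt_card (show 1 < Fintype.card _ by rw [ht]; omega)
  obtain ⟨hP, hle, hzero, hnorm⟩ := half_diag h d hε hp he2 hdeg c
  obtain ⟨-, -, -, hnorm'⟩ := half_diag h d hε hp he2 hdeg c'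
  have hd := deg_split h d c c'
  have hx := excess_split h d c c'
  rw [hdeg, hdeg, pm_oneG h d, if_neg hcc] at hd hx
  rw [hε, one_mul] at hx
  have hpair : ∑ j : ZMod p, (mN h (d.exc c) j : ℤ) * mN h (d.exc c') j = (0 : ℤ) := by
    exact_mod_cast (half_pair h d hε hp he2 hdeg c c').trans (if_neg hcc)
  rw [hpair, show ((p - 1 : ℕ) : ℤ) = 2 * e by omega] at hx
  set P := ∑ χ ∈ Plus h d, pm h d c c' χ with hP'
  set Mi := ∑ χ ∈ Minus h d, pm h d c c' χ with hMi
  set E := ∑ a, pm h d c c' (d.exc a) with hE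
  rw [← Nat.cast_sum, ← Nat.cast_sum, ← Nat.cast_sum, ← hP', ← hMi, ← hE] at hx
  push_cast at hx
  have hx' : 2 * (Mi : ℤ) + E = (e : ℤ) + 2 * P := by
    have : (e : ℤ) * (2 * (Mi : ℤ) + E - ((e : ℤ) + 2 * P)) = 0 := by linear_combination hx
    rcases mul_eq_zero.mp this with h3 | h3 <;> omega
  have hE' : ∑ a, pm h d c c' (d.exc a) * charDegree (d.exc a : G → ℂ) = E * e := by
    rw [hE, Finset.sum_mul]; exact Finset.sum_congr rfl fun a _ => by rw [hdeg]
  have hPD : P * (p + 1) ≤ ∑ χ ∈ Plus h d, pm h d c c' χ * charDegree (χ : G → ℂ) := by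
    rw [hP', Finset.sum_mul]
    refine Finset.sum_le_sum fun χ hχ => Nat.mul_le_mul_left _ ?_
    obtain ⟨hm, hD⟩ := plus_eq h d hχ
    have := Nat.mul_le_mul_left p hm
    omega
  have hMD : (∑ χ ∈ Minus h d, pm h d c c' χ * (charDegree (χ : G → ℂ) - (p - 1))) + Mi * (p - 1) =
      ∑ χ ∈ Minus h d, pm h d c c' χ * charDegree (χ : G → ℂ) := by
    rw [hMi, Finset.sum_mul, ← Finset.sum_add_distrib]
    refine Finset.sum_congr rfl fun χ hχ => ?_
    rw [← mul_add, Nat.sub_add_cancel]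
    have := minus_eq h d hχ
    omega
  rw [hE', ← hMD] at hd
  rw [show Mi * (p - 1) = 2 * Mi * e by rw [show p - 1 = 2 * e by omega]; ring] at hd
  set X := ∑ χ ∈ Minus h d, pm h d c c' χ * (charDegree (χ : G → ℂ) - (p - 1)) with hX
  have hall : P = 0 ∧ X = 0 := by
    have h1 : 2 * Mi + E = e + 2 * P := by omega
    have h2 : (2 * Mi + E) * e = (e + 2 * P) * e := by rw [h1]
    rw [add_mul, add_mul] at h2
    have h3 : P * (p + 1) = 2 * P * (e + 1) := (congrArg (fun q => P * (q + 1)) hp).trans (by ring)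
    rw [h3, mul_add, mul_one] at hPD
    omega
  obtain ⟨hP0, hX0⟩ := hall
  have hMsum : 2 * Mi + E = e := by omega
  -- squares
  have hsq := sq_le h d c c'
  have hsq' : ∑ χ : IrrCharacter G, pm h d c c' χ ^ 2 * 2 ≤ e + 1 := by
    rw [← Finset.sum_mul]; omega
  rw [sum_split h d, pm_oneG h d, if_neg hcc] at hsq'
  simp only [zero_pow two_ne_zero, zero_mul, zero_add, ← Finset.sum_mul] at hsq'
  have hodd : Odd e := ⟨∑ χ ∈ Plus h d, pm h d c c χ, by omega⟩
  have hEsq : E ^ 2 ≤ 2 * ∑ a, pm h d c c' (d.exc a) ^ 2 := by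
    have := sq_sum_le_card_mul_sum_sq (s := (Finset.univ : Finset ((ZMod p)ˣ ⧸ U h.hS (oneK x L : K x L → ℂ))))
      (f := fun a => pm h d c c' (d.exc a))
    rw [Finset.card_univ, ht] at this
    exact this
  have hMsq : Mi ≤ ∑ χ ∈ Minus h d, pm h d c c' χ ^ 2 := Finset.sum_le_sum fun χ _ => Nat.le_self_pow two_ne_zero _
  have hE1 : E = 1 := by
    obtain ⟨k, hk⟩ := hodd
    by_contra hne
    have : 3 * E ≤ E ^ 2 := by
      rw [pow_two]
      exact Nat.mul_le_mul_right _ (by omega)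
    omega
  have hMle : ∀ χ ∈ Minus h d, pm h d c c' χ ≤ 1 := by
    intro χ hχ
    by_contra hgt
    have hEpos : 1 ≤ ∑ a, pm h d c c' (d.exc a) ^ 2 := by
      rw [hE1] at hEsq; omega
    have h1 : Mi + 1 ≤ ∑ ψ ∈ Minus h d, pm h d c c' ψ ^ 2 := by
      rw [hMi, ← Finset.add_sum_erase _ _ hχ, ← Finset.add_sum_erase _ _ hχ, add_right_comm]
      refine Nat.add_le_add ?_ (Finset.sum_le_sum fun ψ _ => Nat.le_self_pow two_ne_zero _)
      have := Nat.mul_le_mul_right (pm h d c c' χ) (show 2 ≤ pm h d c c' χ by omega)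
      rw [pow_two]
      omega
    omega
  -- all members occur
  have hr := card_plus_minus h d
  have hPle : ∑ χ ∈ Plus h d, pm h d c c χ ≤ (Plus h d).card := by
    rw [Finset.card_eq_sum_ones]; exact Finset.sum_le_sum fun χ hχ => (hle χ hχ).1
  have hMle' : Mi ≤ (Minus h d).card := by
    rw [hMi, Finset.card_eq_sum_ones]; exact Finset.sum_le_sum hMle
  have hPall : ∀ χ ∈ Plus h d, pm h d c c χ = 1 := by
    refine (Finset.sum_eq_sum_iff_of_le (fun χ hχ => (hle χ hχ).1)).mp ?_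
    rw [← Finset.card_eq_sum_ones]
    omega
  have hMall : ∀ χ ∈ Minus h d, pm h d c c' χ = 1 := by
    refine (Finset.sum_eq_sum_iff_of_le hMle).mp ?_
    rw [← Finset.card_eq_sum_ones]
    omega
  refine ⟨hodd, ?_, fun χ hχ => (hle χ hχ).2 (by rw [hPall χ hχ]; omega), fun χ hχ => ?_, by omega, fun μ => ?_⟩
  · obtain ⟨k, hk⟩ := hodd; omega
  · have h1 := Finset.sum_eq_zero_iff.mp hX0 χ hχ
    rw [hMall χ hχ, one_mul] at h1
    have h2 := minus_eq h d hχ
    have h3 : p * m0 h χ = 0 := by omega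
    rcases Nat.mul_eq_zero.mp h3 with h4 | h4
    · omega
    · refine ⟨?_, h4⟩
      rw [h4, mul_zero, zero_add] at h2
      exact h2
  · have h1 := half_lin h d hε hp he2 hdeg c μ
    rw [← Finset.add_sum_erase _ _ (Finset.mem_univ (oneG G)), pm_oneG h d, if_pos rfl, one_mul,
      ← Finset.sum_subset (s₁ := Plus h d)
        (fun χ hχ => Finset.mem_erase.mpr ⟨((mem_Plus h d).mp hχ).2.2.1, Finset.mem_univ _⟩)
        (fun χ hχ h2 => by rw [hzero χ (Finset.ne_of_mem_erase hχ) h2, zero_mul]),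
      Finset.sum_congr rfl (g := fun χ => lin h χ μ) (fun χ hχ => by rw [hPall χ hχ, one_mul])] at h1
    omega

set_option maxHeartbeats 800000 in
open scoped Classical in
theorem half_card [IsSimpleGroup G] (hnc : ∃ a b : G, a * b ≠ b * a) {b m : ℕ}
    (hG : Nat.card G = 2 ^ b * (p * e)) (hm : p + 1 = 2 ^ m) : Nat.card (Sylow p G) = p + 1 := by
  obtain ⟨hodd, hr, hPlus, hMinus, hcardP, hlin⟩ := half_block h d hε hp he2 hdeg
  obtain ⟨k, hk⟩ := hodd
  have hp3 := h.hp3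
  have hpe : ¬ 2 ∣ p * e := by
    rw [Nat.prime_two.dvd_mul]; omega
  obtain ⟨c₀⟩ : Nonempty ((ZMod p)ˣ ⧸ U h.hS (oneK x L : K x L → ℂ)) := inferInstance
  obtain ⟨χ₁, hχ₁⟩ := Finset.card_pos.mp hr
  have hmdvd : 2 ^ m ∣ 2 ^ b := by
    have h1 := Codegree.deg_dvd_card χ₁
    rw [(hPlus χ₁ hχ₁).1, hm, hG] at h1
    refine (Nat.Coprime.pow_left m ?_).dvd_of_dvd_mul_right h1
    exact (Nat.prime_two.coprime_iff_not_dvd.mpr hpe)
  have hm1 : 1 ≤ m := Nat.pos_of_ne_zero fun h0 => by rw [h0, pow_zero] at hm; omega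
  have hb : 1 ≤ b := hm1.trans ((Nat.pow_dvd_pow_iff_le_right (by norm_num : 1 < 2)).mp hmdvd)
  obtain ⟨u, hu, hub⟩ := exists_central_involution hG hpe hb
  have hu1 : u ≠ 1 := fun e' => by rw [e', orderOf_one] at hu; omega
  obtain ⟨g, hg⟩ := hub
  have hup : ¬ p ∣ Nat.card (Subgroup.centralizer ({u} : Set G)) := not_dvd_centralizer h hu1 (by
    rw [hu, Nat.prime_dvd_prime_iff_eq h.hS.hp Nat.prime_two]; omega)
  have hidx : g * (Subgroup.centralizer ({u} : Set G)).index = p * e := by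
    have h1 := (Subgroup.centralizer ({u} : Set G)).card_mul_index
    rw [hG, hg, mul_assoc] at h1
    exact Nat.eq_of_mul_eq_mul_left (by positivity) h1
  have hne1 : ∀ χ ∈ Plus h d, χ ≠ oneG G := fun χ hχ => ((mem_Plus h d).mp hχ).2.2.1
  have hPu : ∀ χ ∈ Plus h d, (χ : G → ℂ) u = 0 := fun χ hχ =>
    apply_eq_zero hnc h.hlin (hne1 χ hχ) hu1 (by
      rw [(hPlus χ hχ).1, hm]
      refine Nat.Coprime.pow_left m (Nat.prime_two.coprime_iff_not_dvd.mpr fun h2 => hpe ?_)
      rw [← hidx]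
      exact h2.mul_left g)
  have hMl : ∀ χ ∈ Minus h d, ∀ l : L, l ≠ 1 → (χ : G → ℂ) (l : G) = 0 := fun χ hχ l hl =>
    apply_eq_zero_of_m0 h (hMinus χ hχ).2 hl
  -- the centralizers
  have hcent : ∀ l : L, l ≠ 1 → g = 1 ∧ Nat.card (Subgroup.centralizer ({(l : G)} : Set G)) = e := by
    intro l hl
    obtain ⟨j, hj⟩ : e ∣ Nat.card (Subgroup.centralizer ({(l : G)} : Set G)) := by
      rw [← h.he]
      refine Subgroup.card_dvd_of_le fun a ha => ?_
      rw [Subgroup.mem_centralizer_singleton_iff]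
      exact congrArg Subtype.val (L_comm h ⟨a, ha⟩ l)
    have hl1 : (l : G) ≠ 1 := fun e' => hl (Subtype.ext e')
    have hlp : ¬ p ∣ Nat.card (Subgroup.centralizer ({(l : G)} : Set G)) :=
      not_dvd_centralizer h hl1 (h.hS.regular_L l)
    have h1 := class_mult u (l : G) x
    have hsum : ∑ χ : IrrCharacter G, (χ : G → ℂ) u * (χ : G → ℂ) (l : G) * conj ((χ : G → ℂ) x) / (χ : G → ℂ) 1 = 1 := by
      rw [Finset.sum_congr rfl (g := fun χ : IrrCharacter G => (χ : G → ℂ) u * (χ : G → ℂ) (l : G) / (χ : G → ℂ) 1 * conj ((χ : G → ℂ) x))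
          (fun χ _ => by ring),
        sum_mul_apply_x h d _ c₀ (fun c => by
          rw [half_apply_L h d hε hp he2 hdeg c hl, half_apply_L h d hε hp he2 hdeg c₀ hl]; simp),
        Finset.sum_eq_zero (s := Plus h d) (fun χ hχ => by rw [hPu χ hχ, zero_mul, zero_div]),
        Finset.sum_eq_zero (s := Minus h d) (fun χ hχ => by rw [hMl χ hχ l hl, mul_zero, zero_div]),
        half_apply_L h d hε hp he2 hdeg c₀ hl]
      simp
    rw [hsum, mul_one, hG, hg, hj] at h1
    norm_cast at h1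
    have h2 : Nat.card {q : G × G // IsConj u q.1 ∧ IsConj (l : G) q.2 ∧ q.1 * q.2 = x} * (g * j) = p := by
      refine Nat.eq_of_mul_eq_mul_left (show 0 < 2 ^ b * e by positivity) ?_
      rw [show 2 ^ b * e * p = 2 ^ b * (p * e) by ring, ← h1]
      ring
    rcases (Nat.dvd_prime h.hS.hp).mp (Dvd.intro_left _ h2 : g * j ∣ p) with h3 | h3
    · obtain ⟨hg1, hj1⟩ := mul_eq_one.mp h3
      exact ⟨hg1, by rw [hj, hj1, mul_one]⟩
    · exfalso
      rcases h.hS.hp.dvd_mul.mp (h3 ▸ dvd_rfl : p ∣ g * j) with h4 | h4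
      · exact hup (hg ▸ h4.mul_left _)
      · exact hlp (hj ▸ h4.mul_left _)
  haveI : Nontrivial L := Finite.one_lt_card_iff_nontrivial.mp (by rw [h.he]; omega)
  obtain ⟨l₀, hl₀⟩ := exists_ne (1 : L)
  have hg1 := (hcent l₀ hl₀).1
  rw [hg1, mul_one] at hg
  -- the columns of the complement
  have hcardIrr : Fintype.card (IrrCharacter L) = e := by
    have h1 := sum_irr_L h (1 : L)
    rw [if_pos rfl, Finset.sum_congr rfl (fun μ _ => irr_L_one h μ), Finset.sum_const, Finset.card_univ,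
      nsmul_eq_mul, mul_one] at h1
    exact_mod_cast h1
  have hcol : ∀ l : L, l ≠ 1 → ∀ a : G, ¬ IsConj (l : G) a →
      1 * conj (((oneG G : IrrCharacter G) : G → ℂ) a) + ∑ χ ∈ Plus h d, (χ : G → ℂ) (l : G) * conj ((χ : G → ℂ) a) +
        ∑ χ ∈ Finset.univ.filter (fun χ => χ ∉ principalBlock M G), (χ : G → ℂ) (l : G) * conj ((χ : G → ℂ) a) = 0 := by
    intro l hl a ha
    have h1 := Char.column_orth (l : G) a
    rw [if_neg ha, sum_split h d, Finset.sum_eq_zero (s := Minus h d) (fun χ hχ => by rw [hMl χ hχ l hl, zero_mul]),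
      Finset.sum_eq_zero (s := (Finset.univ : Finset ((ZMod p)ˣ ⧸ U h.hS (oneK x L : K x L → ℂ))))
        (fun c _ => by rw [half_apply_L h d hε hp he2 hdeg c hl, zero_mul]), add_zero, add_zero,
      show ((oneG G : IrrCharacter G) : G → ℂ) (l : G) = 1 from rfl] at h1
    exact h1
  have hlin1 : ∀ μ : IrrCharacter L, lin h (oneG G) μ = if μ = oneL L then 1 else 0 := by
    intro μ
    apply Nat.cast_injective (R := ℂ)
    rw [← lin_spec h]
    have hF : fixedPart p x ((oneG G : IrrCharacter G) : G → ℂ) = ((oneL L : IrrCharacter L) : L → ℂ) := by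
      funext l
      show (p : ℂ)⁻¹ * ∑ i : ZMod p, (1 : ℂ) = 1
      rw [Finset.sum_const, Finset.card_univ, ZMod.card, nsmul_eq_mul, mul_one,
        inv_mul_cancel₀ (Nat.cast_ne_zero.mpr h.hS.hp.ne_zero)]
    rw [hF]
    split_ifs with h1
    · subst h1; rw [Char.classInner_irr_self Char.isIrrCharacter_one, Nat.cast_one]
    · rw [Char.classInner_irr_of_ne Char.isIrrCharacter_one μ.2 (fun e' => h1 (Subtype.ext e'.symm)), Nat.cast_zero]
  have hPsum : ∀ l : L, l ≠ 1 → ∑ χ ∈ Plus h d, (χ : G → ℂ) (l : G) = -1 := by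
    intro l hl
    rw [Finset.sum_congr rfl fun χ _ => apply_eq_lin h χ hl, Finset.sum_comm]
    simp only [← Finset.sum_mul, ← Nat.cast_sum]
    have h1 := sum_irr_L h l
    rw [if_neg hl] at h1
    rw [Finset.sum_congr rfl (g := fun μ : IrrCharacter L => (μ : L → ℂ) l - if μ = oneL L then (1 : ℂ) else 0)
      (fun μ _ => ?_), Finset.sum_sub_distrib, h1, Finset.sum_ite_eq', if_pos (Finset.mem_univ _), zero_sub]
    have h2 := hlin μ
    rw [hlin1] at h2
    split_ifs at h2 ⊢ with h3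
    · subst h3
      rw [show ∑ χ ∈ Plus h d, lin h χ (oneL L) = 0 by omega, Nat.cast_zero, zero_mul, show ((oneL L : IrrCharacter L) : L → ℂ) l = 1 from rfl, sub_self]
    · rw [show ∑ χ ∈ Plus h d, lin h χ μ = 1 by omega, Nat.cast_one, one_mul, sub_zero]
  -- the squares on the complement
  let V : IrrCharacter G → ℝ := fun χ => ∑ l ∈ Finset.univ.erase (1 : L), ‖(χ : G → ℂ) (l : G)‖ ^ 2
  have hV : ∀ χ, V χ = (e : ℝ) * ∑ μ : IrrCharacter L, (lin h χ μ : ℝ) ^ 2 - (m0 h χ : ℝ) ^ 2 := by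
    intro χ
    rw [← sum_normSq_lin h χ, ← Finset.add_sum_erase _ _ (Finset.mem_univ (1 : L)), fixedPart_one h,
      Complex.norm_natCast, add_sub_cancel_left]
    exact Finset.sum_congr rfl fun l hl => by rw [fixedPart_ne_one h (irr_class χ) (Finset.ne_of_mem_erase hl)]
  have hVsum : ∑ χ : IrrCharacter G, V χ = (e : ℝ) * ((e : ℝ) - 1) := by
    rw [Finset.sum_comm, Finset.sum_congr rfl (g := fun _ => (e : ℝ)) (fun l hl => ?_), Finset.sum_const,
      Finset.card_erase_of_mem (Finset.mem_univ _), Finset.card_univ, ← Nat.card_eq_fintype_card, h.he, nsmul_eq_mul,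
      Nat.cast_sub (by omega : 1 ≤ e), Nat.cast_one, mul_comm]
    apply Complex.ofReal_injective
    have h1 := Char.column_orth (l : G) (l : G)
    rw [if_pos (IsConj.refl _), (hcent l (Finset.ne_of_mem_erase hl)).2] at h1
    push_cast
    rw [← h1]
    exact Finset.sum_congr rfl fun χ _ => (Complex.mul_conj' _).symm
  have hVnn : ∀ χ, 0 ≤ V χ := fun χ => Finset.sum_nonneg fun l _ => sq_nonneg _
  have hVplus : ∑ χ ∈ Plus h d, V χ = ((e : ℝ) - 1) * ((e : ℝ) - 2) := by
    simp only [hV]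
    rw [Finset.sum_sub_distrib, ← Finset.mul_sum, Finset.sum_comm,
      Finset.sum_congr (s₁ := (Finset.univ : Finset (IrrCharacter L))) rfl
        (g := fun μ => if μ = oneL L then (0 : ℝ) else 1) (fun μ _ => ?_),
      Finset.sum_congr (s₁ := Plus h d) rfl (g := fun _ => (4 : ℝ)) (fun χ hχ => by rw [(hPlus χ hχ).2]; norm_num),
      Finset.sum_const, Finset.sum_ite, Finset.sum_const_zero, Finset.sum_const,
      Finset.filter_ne' Finset.univ (oneL L),
      Finset.card_erase_of_mem (Finset.mem_univ _), Finset.card_univ, hcardIrr, nsmul_eq_mul, nsmul_eq_mul,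
      zero_add, mul_one, Nat.cast_sub (by omega : 1 ≤ e), Nat.cast_one]
    · have : 2 * ((Plus h d).card : ℝ) + 1 = (e : ℝ) := by exact_mod_cast hcardP
      linear_combination (-2 : ℝ) * this
    · have h2 := hlin μ
      rw [hlin1] at h2
      split_ifs at h2 ⊢ with h3
      · have h4 := Finset.sum_eq_zero_iff.mp (show ∑ χ ∈ Plus h d, lin h χ μ = 0 by omega)
        exact Finset.sum_eq_zero fun χ hχ => by rw [h4 χ hχ, Nat.cast_zero, zero_pow two_ne_zero]
      · have h4 : ∑ χ ∈ Plus h d, lin h χ μ = 1 := by omega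
        rw [Finset.sum_congr rfl (g := fun χ => ((lin h χ μ : ℕ) : ℝ)) (fun χ hχ => ?_), ← Nat.cast_sum, h4, Nat.cast_one]
        have h5 : lin h χ μ ≤ 1 := h4 ▸ Finset.single_le_sum (f := fun χ => lin h χ μ) (fun _ _ => Nat.zero_le _) hχ
        interval_cases lin h χ μ <;> norm_num
  set Out := Finset.univ.filter (fun χ : IrrCharacter G => χ ∉ principalBlock M G) with hOut
  have hVout : ∑ χ ∈ Out, V χ = (e : ℝ) - 1 := by
    have h1 := sum_split h d V
    rw [hVsum, hVplus, Finset.sum_eq_zero (s := Minus h d) (fun χ hχ => Finset.sum_eq_zero fun l hl => by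
        rw [hMl χ hχ l (Finset.ne_of_mem_erase hl), norm_zero, zero_pow two_ne_zero]),
      Finset.sum_eq_zero (s := (Finset.univ : Finset ((ZMod p)ˣ ⧸ U h.hS (oneK x L : K x L → ℂ)))) (fun c _ =>
        Finset.sum_eq_zero fun l hl => by
          rw [half_apply_L h d hε hp he2 hdeg c (Finset.ne_of_mem_erase hl), norm_zero, zero_pow two_ne_zero]),
      ← hOut, show V (oneG G) = (e : ℝ) - 1 from ?_] at h1
    · linarith
    · show ∑ l ∈ Finset.univ.erase (1 : L), ‖((1 : ℂ))‖ ^ 2 = _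
      rw [norm_one, one_pow, Finset.sum_const, Finset.card_erase_of_mem (Finset.mem_univ _), Finset.card_univ,
        ← Nat.card_eq_fintype_card, h.he, nsmul_eq_mul, mul_one, Nat.cast_sub (by omega : 1 ≤ e), Nat.cast_one]
  have hnot1 : ∀ l : L, l ≠ 1 → ¬ IsConj (l : G) 1 := fun l hl e' => hl (Subtype.ext (isConj_one_left.mp e'))
  have hOne : ∀ l : L, l ≠ 1 → ∑ χ ∈ Out, (χ : G → ℂ) (l : G) * (m0 h χ : ℂ) = 1 := by
    intro l hl
    have h1 := hcol l hl 1 (hnot1 l hl)
    rw [Finset.sum_congr rfl (g := fun χ : IrrCharacter G => (χ : G → ℂ) (l : G) * ((p : ℂ) + 1)) (fun χ hχ => by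
        rw [← charDegree_cast, Complex.conj_natCast, (hPlus χ hχ).1, Nat.cast_add, Nat.cast_one]),
      Finset.sum_congr (s₁ := Finset.univ.filter _) rfl (g := fun χ : IrrCharacter G => (p : ℂ) * ((χ : G → ℂ) (l : G) * (m0 h χ : ℂ)))
        (fun χ hχ => by
          have h2 := excess_out h d (Finset.mem_filter.mp hχ).2
          rw [excess, sub_eq_zero] at h2
          rw [← charDegree_cast, Complex.conj_natCast, ← show p * m0 h χ = charDegree (χ : G → ℂ) by exact_mod_cast h2,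
            Nat.cast_mul]
          ring),
      ← Finset.sum_mul, hPsum l hl, ← Finset.mul_sum, show ((oneG G : IrrCharacter G) : G → ℂ) 1 = 1 from rfl, map_one] at h1
    refine mul_left_cancel₀ (Nat.cast_ne_zero.mpr h.hS.hp.ne_zero : (p : ℂ) ≠ 0) ?_
    linear_combination h1
  obtain ⟨φ, hφ, hφl⟩ : ∃ φ ∈ Out, (φ : G → ℂ) (l₀ : G) ≠ 0 := by
    by_contra hcon
    push Not at hcon
    have h1 := hOne l₀ hl₀
    rw [Finset.sum_eq_zero fun χ hχ => by rw [hcon χ hχ, zero_mul]] at h1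
    exact one_ne_zero h1.symm
  have hφge : (e : ℝ) - 1 ≤ V φ := by
    obtain ⟨μ, ν, hμν⟩ : ∃ μ ν, lin h φ μ ≠ lin h φ ν := by
      by_contra hcon
      push Not at hcon
      refine hφl ?_
      rw [apply_eq_lin h φ hl₀, Finset.sum_congr rfl (fun μ _ => by rw [hcon μ (oneL L)]), ← Finset.mul_sum,
        sum_irr_L h, if_neg hl₀, mul_zero]
    have h1 := variance_ge (fun μ => lin h φ μ) hμν
    rw [hcardIrr, ← Nat.cast_sum, sum_lin h] at h1
    rw [hV]
    exact h1
  have hothers : ∀ χ ∈ Out, χ ≠ φ → ∀ l : L, l ≠ 1 → (χ : G → ℂ) (l : G) = 0 := by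
    intro χ hχ hne l hl
    have h1 := Finset.add_sum_erase Out V hφ
    rw [hVout] at h1
    have h2 := Finset.single_le_sum (f := V) (fun a _ => hVnn a) (Finset.mem_erase.mpr ⟨hne, hχ⟩)
    have h3 : V χ = 0 := le_antisymm (by linarith) (hVnn χ)
    have h4 := (Finset.sum_eq_zero_iff_of_nonneg fun a _ => sq_nonneg _).mp h3 l (Finset.mem_erase.mpr ⟨hl, Finset.mem_univ _⟩)
    simpa using h4
  have hφval : ∀ l : L, l ≠ 1 → (φ : G → ℂ) (l : G) * (m0 h φ : ℂ) = 1 := by
    intro l hl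
    rw [← hOne l hl, Finset.sum_eq_single φ (fun χ hχ hne => by rw [hothers χ hχ hne l hl, zero_mul])
      (fun h' => absurd hφ h')]
  have hm0 : m0 h φ = 1 := by
    have h1 : m0 h φ ≠ 0 := fun h0 => by
      have := hφval l₀ hl₀
      rw [h0, Nat.cast_zero, mul_zero] at this
      exact zero_ne_one this
    have h2 : V φ * (m0 h φ : ℝ) ^ 2 = (e : ℝ) - 1 := by
      rw [Finset.sum_mul, Finset.sum_congr rfl (g := fun _ => (1 : ℝ)) (fun l hl => ?_), Finset.sum_const,
        Finset.card_erase_of_mem (Finset.mem_univ _), Finset.card_univ, ← Nat.card_eq_fintype_card, h.he, nsmul_eq_mul,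
        mul_one, Nat.cast_sub (by omega : 1 ≤ e), Nat.cast_one]
      have h3 := congrArg (fun z : ℂ => ‖z‖ ^ 2) (hφval l (Finset.ne_of_mem_erase hl))
      simp only [norm_mul, mul_pow, Complex.norm_natCast, norm_one, one_pow] at h3
      exact h3
    by_contra hne
    have h3 : (2 : ℝ) ≤ (m0 h φ : ℝ) := by exact_mod_cast (show 2 ≤ m0 h φ by omega)
    have h4 : (2 : ℝ) ≤ (e : ℝ) := by exact_mod_cast he2
    nlinarith [mul_le_mul hφge (show (4 : ℝ) ≤ (m0 h φ : ℝ) ^ 2 by nlinarith) (by norm_num) (hVnn φ)]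
  have hφone : ∀ l : L, l ≠ 1 → (φ : G → ℂ) (l : G) = 1 := fun l hl => by
    have := hφval l hl
    rwa [hm0, Nat.cast_one, mul_one] at this
  have hφdeg : (φ : G → ℂ) 1 = (p : ℂ) := by
    have h2 := excess_out h d (Finset.mem_filter.mp hφ).2
    rw [excess, sub_eq_zero, hm0, Nat.cast_one, mul_one] at h2
    rw [← charDegree_cast, ← show p = charDegree (φ : G → ℂ) by exact_mod_cast h2]
  -- the column of the involution against the complement
  have hodd' : ∀ l : L, l ≠ 1 → ¬ IsConj (l : G) u := by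
    intro l hl hc
    obtain ⟨c, hc⟩ := isConj_iff.mp hc
    have h1 : orderOf (l : G) = 2 := by rw [← hu, ← hc, SecondMain.orderOf_conj]
    have h2 := orderOf_dvd_natCard l
    rw [← Subgroup.orderOf_coe, h1, h.he] at h2
    omega
  have hφu : conj ((φ : G → ℂ) u) = -1 := by
    have h1 := hcol l₀ hl₀ u (hodd' l₀ hl₀)
    rw [Finset.sum_eq_zero (s := Plus h d) (fun χ hχ => by rw [hPu χ hχ, map_zero, mul_zero]),
      Finset.sum_eq_single φ (fun χ hχ hne => by rw [hothers χ hχ hne l₀ hl₀, zero_mul]) (fun h' => absurd hφ h'),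
      hφone l₀ hl₀, show ((oneG G : IrrCharacter G) : G → ℂ) u = 1 from rfl, map_one] at h1
    linear_combination h1
  have hφu' : (φ : G → ℂ) u = -1 := by
    have := congrArg conj hφu
    simpa using this
  have hfin := class_mult u u (l₀ : G)
  have hsum : ∑ χ : IrrCharacter G, (χ : G → ℂ) u * (χ : G → ℂ) u * conj ((χ : G → ℂ) (l₀ : G)) / (χ : G → ℂ) 1 =
      1 + 1 / (p : ℂ) := by
    rw [sum_split h d, Finset.sum_eq_zero (s := Plus h d) (fun χ hχ => by rw [hPu χ hχ]; simp),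
      Finset.sum_eq_zero (s := Minus h d) (fun χ hχ => by rw [hMl χ hχ l₀ hl₀]; simp),
      Finset.sum_eq_zero (s := (Finset.univ : Finset ((ZMod p)ˣ ⧸ U h.hS (oneK x L : K x L → ℂ))))
        (fun c _ => by rw [half_apply_L h d hε hp he2 hdeg c hl₀]; simp),
      Finset.sum_eq_single φ (fun χ hχ hne => by rw [hothers χ hχ hne l₀ hl₀]; simp) (fun h' => absurd hφ h'),
      hφone l₀ hl₀, hφu', hφdeg]
    simp
  rw [hsum, hG, hg] at hfin
  have h2 : Nat.card {q : G × G // IsConj u q.1 ∧ IsConj u q.2 ∧ q.1 * q.2 = (l₀ : G)} * 2 ^ b = e * (p + 1) := by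
    apply Nat.cast_injective (R := ℂ)
    refine mul_left_cancel₀ (show ((2 ^ b : ℕ) : ℂ) ≠ 0 from Nat.cast_ne_zero.mpr (by positivity)) ?_
    have hp0 : (p : ℂ) ≠ 0 := Nat.cast_ne_zero.mpr h.hS.hp.ne_zero
    push_cast at hfin ⊢
    field_simp at hfin
    linear_combination (2 : ℂ) ^ b * hfin
  have hbm : 2 ^ b ∣ 2 ^ m := by
    rw [← hm]
    refine (Nat.Coprime.pow_left b (Nat.prime_two.coprime_iff_not_dvd.mpr fun h2' => hpe (h2'.mul_left p))).dvd_of_dvd_mul_left ?_
    exact Dvd.intro_left _ h2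
  have h3 := card_sylow_mul h
  rw [hG, Nat.dvd_antisymm hbm hmdvd, ← hm, mul_comm p e] at h3
  exact Nat.eq_of_mul_eq_mul_right (Nat.mul_pos (by omega) h.hS.hp.pos) h3

end Cfsg.Agent.BrauerTuan
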