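/-
An exceptional degree `p - e` with `e` a power of two and at least four (namespace `Cfsg.Agent.BrauerTuan`).

Main results: `large_t` (`t = 2`), `large_block` (the principal block is known), `large_card` (`p + 1` Sylow
subgroups).
-/
import Cfsg.Agent.Lib.BrauerTuan.Products
import Cfsg.Agent.Lib.BrauerTuan.General

set_option autoImplicit false
set_option linter.unusedSectionVars false
set_option linter.style.haveILetI false

open scoped ComplexConjugate

namespace Cfsg.Agent.BrauerTuan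

open Cfsg Cfsg.Agent.Blocks Cfsg.Agent.CyclicDefect Cfsg.Agent.BrauerFewSylow

variable {G : Type*} [Group G] [Fintype G] {p : ℕ} [Fact p.Prime] {x : G} {L : Subgroup G}
  {e t : ℕ} (h : Core p x L e t) {M : Ideal AlgInt} (d : Data h M)
  [Fintype (IrrCharacter G)] [Fintype (IrrCharacter L)] [Fintype L]
  [Fintype ((ZMod p)ˣ ⧸ U h.hS (oneK x L : K x L → ℂ))]
include h d

open scoped Classical in
theorem large_even {b : ℕ} (he : 2 ≤ e) (hep : e < p)
    (hG : Nat.card G = 2 ^ b * (p * (p - e))) {χ : IrrCharacter G} (hχ : χ ∈ Plus h d ∨ χ ∈ Minus h d) :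
    2 ∣ charDegree (χ : G → ℂ) := by
  have hp3 := h.hp3
  by_contra hne
  have hnp : ¬ p ∣ charDegree (χ : G → ℂ) := by
    rintro ⟨k, hk⟩
    rcases hχ with h1 | h1
    · obtain ⟨hm, hD⟩ := plus_eq h d h1
      rw [hk] at hD
      have h2 : p * (k + 1) = p * m0 h χ + 1 := by rw [mul_add, mul_one]; exact hD
      have := (Nat.dvd_add_right (dvd_mul_right p (m0 h χ))).mp (h2 ▸ dvd_mul_right p (k + 1))
      exact h.hS.hp.not_dvd_one this
    · have hD := minus_eq h d h1
      rw [hk] at hD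
      have h2 : p * k + 1 = p * (m0 h χ + 1) := by rw [mul_add, mul_one]; exact hD
      have := (Nat.dvd_add_right (dvd_mul_right p k)).mp (h2 ▸ dvd_mul_right p (m0 h χ + 1))
      exact h.hS.hp.not_dvd_one this
  have h1 := Codegree.deg_dvd_card χ
  rw [hG] at h1
  have h2 := ((Nat.prime_two.coprime_iff_not_dvd.mpr hne).pow_left b).symm.dvd_of_dvd_mul_left h1
  have h3 := ((h.hS.hp.coprime_iff_not_dvd.mpr hnp)).symm.dvd_of_dvd_mul_left h2
  have h4 := Nat.le_of_dvd (by omega) h3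
  rcases hχ with h5 | h5
  · obtain ⟨hm, hD⟩ := plus_eq h d h5
    have := Nat.mul_le_mul_left p hm
    omega
  · have hD := minus_eq h d h5
    omega

open scoped Classical in
theorem large_t {b : ℕ} (he4 : 4 ∣ e) (hε : d.ε = -1) (ht : 2 ≤ t)
    (hdeg : ∀ c, charDegree (d.exc c : G → ℂ) + e = p) (hG : Nat.card G = 2 ^ b * (p * (p - e))) :
    t = 2 := by
  have hp3 := h.hp3
  have hte := h.hte
  have he := e_pos h
  obtain ⟨k₀, hk₀⟩ := h.hS.hp.odd_of_ne_two (by omega)
  have hep : e < p := by have := Nat.le_mul_of_pos_left e (show 0 < t by omega); omega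
  have hte4 : 4 ∣ p - 1 := hte ▸ he4.mul_left t
  obtain ⟨ek, hek⟩ := he4
  have hodd : ¬ 2 ∣ p * (p - e) := by rw [Nat.prime_two.dvd_mul]; omega
  obtain ⟨c₀⟩ : Nonempty ((ZMod p)ˣ ⧸ U h.hS (oneK x L : K x L → ℂ)) := inferInstance
  have hrel := rel_apply h d (g := 1) (by rw [orderOf_one]; exact h.hS.hp.not_dvd_one) c₀
  simp only [← charDegree_cast, hε] at hrel
  have hrel' : (-1 : ℤ) - ∑ χ ∈ Plus h d, (charDegree (χ : G → ℂ) : ℤ) + ∑ χ ∈ Minus h d, (charDegree (χ : G → ℂ) : ℤ) +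
      (-1) * (charDegree (d.exc c₀ : G → ℂ) : ℤ) = 0 := by
    apply Int.cast_injective (α := ℂ)
    push_cast at hrel ⊢
    exact hrel
  obtain ⟨χ, hχ, hχ4⟩ : ∃ χ, (χ ∈ Plus h d ∨ χ ∈ Minus h d) ∧ ¬ 4 ∣ charDegree (χ : G → ℂ) := by
    by_contra hcon
    push Not at hcon
    have h1 : (4 : ℤ) ∣ ∑ χ ∈ Plus h d, (charDegree (χ : G → ℂ) : ℤ) :=
      Finset.dvd_sum fun χ hχ => Int.natCast_dvd_natCast.mpr (hcon χ (Or.inl hχ))
    have h2 : (4 : ℤ) ∣ ∑ χ ∈ Minus h d, (charDegree (χ : G → ℂ) : ℤ) :=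
      Finset.dvd_sum fun χ hχ => Int.natCast_dvd_natCast.mpr (hcon χ (Or.inr hχ))
    have := hdeg c₀
    omega
  have h2 := large_even h d (by omega) hep hG hχ
  obtain ⟨q, hq⟩ := h2
  have hqodd : ¬ 2 ∣ q := fun h => hχ4 (by rw [hq]; exact Nat.mul_dvd_mul_left 2 h)
  have hnp : ¬ p ∣ q := by
    intro hd'
    rcases hχ with h1 | h1
    · obtain ⟨-, hD⟩ := plus_eq h d h1
      obtain ⟨k, hk⟩ := hd'
      rw [hq, hk] at hD
      have h3 : p * (2 * k + 1) = p * m0 h χ + 1 := by rw [← hD]; ring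
      have := (Nat.dvd_add_right (dvd_mul_right p (m0 h χ))).mp (h3 ▸ dvd_mul_right p (2 * k + 1))
      exact h.hS.hp.not_dvd_one this
    · have hD := minus_eq h d h1
      obtain ⟨k, hk⟩ := hd'
      rw [hq, hk] at hD
      have h3 : p * (2 * k) + 1 = p * (m0 h χ + 1) := by rw [mul_add, mul_one, ← hD]; ring
      have := (Nat.dvd_add_right (dvd_mul_right p (2 * k))).mp (h3 ▸ dvd_mul_right p (m0 h χ + 1))
      exact h.hS.hp.not_dvd_one this
  have hqd : q ∣ p - e := by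
    have h1 := Codegree.deg_dvd_card χ
    rw [hG, hq] at h1
    have h3 := (dvd_mul_left q 2).trans h1
    exact (h.hS.hp.coprime_iff_not_dvd.mpr hnp).symm.dvd_of_dvd_mul_left
      (((Nat.prime_two.coprime_iff_not_dvd.mpr hqodd).pow_left b).symm.dvd_of_dvd_mul_left h3)
  have hqle := Nat.le_of_dvd (by omega) hqd
  rcases hχ with h1 | h1
  swap
  · exfalso
    have hD := minus_eq h d h1
    rw [hq] at hD
    rcases Nat.eq_zero_or_pos (m0 h χ) with h0 | h0
    · rw [h0, mul_zero, zero_add] at hD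
      omega
    · have := Nat.le_mul_of_pos_right p h0
      omega
  obtain ⟨hm, hD⟩ := plus_eq h d h1
  rw [hq] at hD
  have hm2 : m0 h χ = 2 := by
    by_contra hne
    have := Nat.mul_le_mul_left p (show 3 ≤ m0 h χ by omega)
    omega
  rw [hm2] at hD
  have hq2 : 2 * q = p + 1 := by omega
  have hqe : q ∣ e + 1 := by
    have h3 := Nat.dvd_sub (dvd_mul_left q 2) hqd
    rwa [hq2, show p + 1 - (p - e) = e + 1 by omega] at h3
  have hqle2 := Nat.le_of_dvd (by omega) hqe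
  by_contra ht3
  have := Nat.mul_le_mul_right e (show 3 ≤ t by omega)
  omega

variable (hε : d.ε = -1) (hp : p = 2 * e + 1) (he2 : 2 ≤ e) (hdeg : ∀ c, charDegree (d.exc c : G → ℂ) = e + 1)
  (heven : ∀ χ, χ ∈ Plus h d ∨ χ ∈ Minus h d → 2 ∣ charDegree (χ : G → ℂ))
include hε hp he2 hdeg

theorem large_m0 (c : (ZMod p)ˣ ⧸ U h.hS (oneK x L : K x L → ℂ)) : m0 h (d.exc c) = 1 := by
  have h1 := exc_eq h d c
  rw [hε, hdeg] at h1
  have h2 : (p : ℤ) * ((m0 h (d.exc c) : ℤ) - 1) = 0 := by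
    have h3 : (p : ℤ) = 2 * e + 1 := by omega
    push_cast at h1
    linear_combination -h1 - h3
  rcases mul_eq_zero.mp h2 with h3 | h3 <;> omega

open scoped Classical in
theorem large_mN (c : (ZMod p)ˣ ⧸ U h.hS (oneK x L : K x L → ℂ)) (u : (ZMod p)ˣ) :
    mN h (d.exc c) (u : ZMod p) = if (u : (ZMod p)ˣ ⧸ U h.hS (oneK x L : K x L → ℂ)) = c then 0 else 1 := by
  have h1 := mN_exc h d c u
  rw [large_m0 h d hε hp he2 hdeg c, hε] at h1
  split_ifs at h1 ⊢ <;> omega

open scoped Classical in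
theorem large_pair (c c' : (ZMod p)ˣ ⧸ U h.hS (oneK x L : K x L → ℂ)) :
    ∑ j : ZMod p, mN h (d.exc c) j * mN h (d.exc c') j = if c = c' then e + 1 else 1 := by
  have ht : Fintype.card ((ZMod p)ˣ ⧸ U h.hS (oneK x L : K x L → ℂ)) = 2 := by
    rw [← Nat.card_eq_fintype_card, card_T h]
    have h1 := h.hte
    exact Nat.eq_of_mul_eq_mul_right (show 0 < e by omega) (by omega)
  have h0 : ∀ a, mN h (d.exc a) 0 = 1 := fun a => large_m0 h d hε hp he2 hdeg a
  split_ifs with hc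
  · subst hc
    rw [← hdeg c, charDegree_eq_sum' h]
    refine Finset.sum_congr rfl fun j _ => ?_
    rcases eq_or_ne j 0 with rfl | hj
    · rw [h0]
    · rw [show j = ((Units.mk0 j hj : (ZMod p)ˣ) : ZMod p) from rfl, large_mN h d hε hp he2 hdeg]
      split_ifs <;> simp
  · rw [Finset.sum_eq_single 0 (fun j _ hj => ?_) (fun h' => absurd (Finset.mem_univ _) h'), h0, h0]
    rw [show j = ((Units.mk0 j hj : (ZMod p)ˣ) : ZMod p) from rfl, large_mN h d hε hp he2 hdeg,
      large_mN h d hε hp he2 hdeg]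
    have huniv : ({c, c'} : Finset _) = Finset.univ :=
      Finset.eq_univ_of_card _ (by rw [Finset.card_pair hc, ht])
    have hm := Finset.mem_univ ((Units.mk0 j hj : (ZMod p)ˣ) : (ZMod p)ˣ ⧸ U h.hS (oneK x L : K x L → ℂ))
    rw [← huniv, Finset.mem_insert, Finset.mem_singleton] at hm
    rcases hm with hm | hm <;> simp [hm]

open scoped Classical in
theorem large_apply_L : ∃ lam : IrrCharacter L, ∀ c, lin h (d.exc c) lam = 1 ∧
    ∀ l : L, l ≠ 1 → (d.exc c : G → ℂ) (l : G) = (lam : L → ℂ) l := by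
  obtain ⟨c₀⟩ : Nonempty ((ZMod p)ˣ ⧸ U h.hS (oneK x L : K x L → ℂ)) := inferInstance
  obtain ⟨lam, hlam⟩ : ∃ μ, lin h (d.exc c₀) μ ≠ 0 := by
    by_contra hcon
    push Not at hcon
    have := sum_lin h (d.exc c₀)
    rw [large_m0 h d hε hp he2 hdeg, Finset.sum_eq_zero fun μ _ => hcon μ] at this
    omega
  have hrest : ∀ μ, lin h (d.exc c₀) μ = if μ = lam then 1 else 0 := by
    intro μ
    have h1 := sum_lin h (d.exc c₀)
    rw [large_m0 h d hε hp he2 hdeg] at h1
    split_ifs with hμ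
    · subst hμ
      have := Finset.single_le_sum (f := fun ν => lin h (d.exc c₀) ν) (fun _ _ => Nat.zero_le _) (Finset.mem_univ μ)
      omega
    · have h2 := Finset.sum_le_sum_of_subset (f := fun ν => lin h (d.exc c₀) ν) (Finset.subset_univ ({μ, lam} : Finset _))
      rw [Finset.sum_pair hμ] at h2
      omega
  refine ⟨lam, fun c => ?_⟩
  have hfix : ∀ l : L, fixedPart p x (d.exc c : G → ℂ) l = (lam : L → ℂ) l := by
    intro l
    have h1 : fixedPart p x (d.exc c : G → ℂ) l = fixedPart p x (d.exc c₀ : G → ℂ) l := by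
      by_cases hl : l = 1
      · subst hl
        rw [fixedPart_one h, fixedPart_one h, large_m0 h d hε hp he2 hdeg, large_m0 h d hε hp he2 hdeg]
      · rw [fixedPart_ne_one h (irr_class _) hl, fixedPart_ne_one h (irr_class _) hl,
          exc_agree h d c c₀ (h.hS.regular_L l)]
    rw [h1, fixedPart_eq h, Finset.sum_eq_single lam (fun μ _ hμ => by rw [hrest, if_neg hμ, Nat.cast_zero, zero_mul])
      (fun h' => absurd (Finset.mem_univ _) h'), hrest, if_pos rfl, Nat.cast_one, one_mul]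
  refine ⟨?_, fun l hl => ?_⟩
  · have h1 := coeff_unique h (a := fun μ => (lin h (d.exc c) μ : ℂ))
      (b := fun μ => if μ = lam then 1 else 0) (fun l => ?_) lam
    · simp only [if_pos] at h1
      exact_mod_cast h1
    · rw [← fixedPart_eq h, hfix]
      simp
  · rw [← fixedPart_ne_one h (irr_class _) hl, hfix]

open scoped Classical in
theorem large_lin (c : (ZMod p)ˣ ⧸ U h.hS (oneK x L : K x L → ℂ)) (μ : IrrCharacter L) :
    ∑ χ : IrrCharacter G, pm h d c c χ * lin h χ μ = (if μ = oneL L then 1 else 0) + 1 := by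
  refine lin_product h (excProd_eq h d c c) (g := fun ν => (if ν = oneL L then 1 else 0) + 1) (fun l => ?_) μ
  simp only [Nat.cast_add, Nat.cast_one, Nat.cast_ite, Nat.cast_zero, add_mul, one_mul, ite_mul, zero_mul,
    Finset.sum_add_distrib, Finset.sum_ite_eq', Finset.mem_univ, if_true]
  rw [sum_irr_L h, Pi.one_apply]
  split_ifs with hl
  · subst hl
    rw [fixedPart]
    simp only [OneMemClass.coe_one, mul_one, excProd]
    rw [sum_pw_mul_conj h, inv_mul_cancel_left₀ (Nat.cast_ne_zero.mpr h.hS.hp.ne_zero)]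
    have h1 := (large_pair h d hε hp he2 hdeg c c).trans (if_pos rfl)
    rw [add_comm]
    exact_mod_cast h1
  · obtain ⟨lam, hlam⟩ := large_apply_L h d hε hp he2 hdeg
    rw [fixedPart_ne_one h (Char.IsCharacter.isClassFunction (isCharacter_excProd h d c c)) hl, excProd,
      (hlam c).2 l hl, add_zero, Complex.mul_conj']
    obtain ⟨f, hf⟩ := irr_L_hom h lam
    rw [← hf, Complex.norm_eq_one_of_pow_eq_one (n := e) (by rw [← map_pow, ← h.he, pow_card_eq_one', map_one]) (by omega)]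
    simp

include heven

set_option maxHeartbeats 1000000 in
open scoped Classical in
theorem large_diag (c : (ZMod p)ˣ ⧸ U h.hS (oneK x L : K x L → ℂ)) :
    2 * ∑ χ ∈ Plus h d, pm h d c c χ + 2 = e ∧
      (∀ χ ∈ Plus h d, pm h d c c χ ≤ 1 ∧ (pm h d c c χ ≠ 0 → charDegree (χ : G → ℂ) = p + 1 ∧ m0 h χ = 2)) ∧
      2 * ∑ χ : IrrCharacter G, pm h d c c χ ^ 2 = e + 4 := by
  obtain ⟨lam, hlam⟩ := large_apply_L h d hε hp he2 hdeg
  have hd := deg_split h d c c
  have hx := excess_split h d c c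
  rw [hdeg, pm_oneG h d, if_pos rfl] at hd hx
  rw [hε] at hx
  have hpair : ∑ j : ZMod p, (mN h (d.exc c) j : ℤ) * mN h (d.exc c) j = ((e + 1 : ℕ) : ℤ) := by
    exact_mod_cast (large_pair h d hε hp he2 hdeg c c).trans (if_pos rfl)
  rw [hpair, show ((p - 1 : ℕ) : ℤ) = 2 * e by omega, show (p : ℤ) = 2 * e + 1 by omega] at hx
  set P := ∑ χ ∈ Plus h d, pm h d c c χ with hP
  set Mi := ∑ χ ∈ Minus h d, pm h d c c χ with hMi
  set E := ∑ a, pm h d c c (d.exc a) with hE
  rw [← Nat.cast_sum, ← Nat.cast_sum, ← Nat.cast_sum, ← hP, ← hMi, ← hE] at hx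
  push_cast at hx
  have hx' : 2 * (P : ℤ) + E = (e : ℤ) - 1 + 2 * Mi := by
    have : (e : ℤ) * (2 * (P : ℤ) + E - ((e : ℤ) - 1 + 2 * Mi)) = 0 := by linear_combination -hx
    rcases mul_eq_zero.mp this with h3 | h3 <;> omega
  have hEd : ∑ a, pm h d c c (d.exc a) * charDegree (d.exc a : G → ℂ) = E * (e + 1) := by
    rw [hE, Finset.sum_mul]; exact Finset.sum_congr rfl fun a _ => by rw [hdeg]
  have hE1 : E ≤ 1 := by
    have h1 := large_lin h d hε hp he2 hdeg c lam
    rw [sum_split h d] at h1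
    have h2 : ∑ a, pm h d c c (d.exc a) * lin h (d.exc a) lam = E := by
      rw [hE]; exact Finset.sum_congr rfl fun a _ => by rw [(hlam a).1, mul_one]
    have h3 : (if lam = oneL L then 1 else 0) ≤ pm h d c c (oneG G) * lin h (oneG G) lam := by
      rw [pm_oneG h d, if_pos rfl, one_mul]
      split_ifs with hl
      · subst hl
        have h4 := sum_lin h (oneG G)
        have h5 : fixedPart p x ((oneG G : IrrCharacter G) : G → ℂ) = ((oneL L : IrrCharacter L) : L → ℂ) := by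
          funext l
          show (p : ℂ)⁻¹ * ∑ i : ZMod p, (1 : ℂ) = 1
          rw [Finset.sum_const, Finset.card_univ, ZMod.card, nsmul_eq_mul, mul_one,
            inv_mul_cancel₀ (Nat.cast_ne_zero.mpr h.hS.hp.ne_zero)]
        have h6 := lin_spec h (oneG G) (oneL L)
        rw [h5, Char.classInner_irr_self Char.isIrrCharacter_one, ← Nat.cast_one, Nat.cast_inj] at h6
        omega
      · exact Nat.zero_le _
    omega
  have hPD : (∑ χ ∈ Plus h d, pm h d c c χ * (charDegree (χ : G → ℂ) - (p + 1))) + P * (p + 1) =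
      ∑ χ ∈ Plus h d, pm h d c c χ * charDegree (χ : G → ℂ) := by
    rw [hP, Finset.sum_mul, ← Finset.sum_add_distrib]
    refine Finset.sum_congr rfl fun χ hχ => ?_
    obtain ⟨hm, hD⟩ := plus_eq h d hχ
    rw [← mul_add, Nat.sub_add_cancel]
    have := Nat.mul_le_mul_left p hm
    omega
  have hMD : Mi * (p - 1) ≤ ∑ χ ∈ Minus h d, pm h d c c χ * charDegree (χ : G → ℂ) := by
    rw [hMi, Finset.sum_mul]
    exact Finset.sum_le_sum fun χ hχ => Nat.mul_le_mul_left _ (by have := minus_eq h d hχ; omega)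
  rw [hEd, ← hPD] at hd
  set X := ∑ χ ∈ Plus h d, pm h d c c χ * (charDegree (χ : G → ℂ) - (p + 1)) with hX
  set Y := ∑ χ ∈ Minus h d, pm h d c c χ * charDegree (χ : G → ℂ) with hY
  set O := ∑ χ ∈ Finset.univ.filter (fun χ => χ ∉ principalBlock M G), pm h d c c χ * charDegree (χ : G → ℂ) with hO
  rw [show p - 1 = 2 * e by omega] at hMD
  rw [show P * (p + 1) = 2 * P * (e + 1) from (congrArg (fun q => P * (q + 1)) hp).trans (by ring)] at hd
  have h1 : 2 * P + E + 1 = e + 2 * Mi := by omega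
  have h2 : (2 * P + E + 1) * (e + 1) = (e + 2 * Mi) * (e + 1) := by rw [h1]
  have hMi0 : Mi = 0 := by nlinarith
  rw [hMi0] at h2 h1
  have hXO : X + O + Y = p := by nlinarith
  have hXdiv : ∀ χ ∈ Plus h d, pm h d c c χ ≠ 0 → m0 h χ = 2 := by
    intro χ hχ h0
    obtain ⟨hm, hD⟩ := plus_eq h d hχ
    by_contra hne
    have hev := heven χ (Or.inl hχ)
    have h3 : m0 h χ ≠ 3 := by
      intro h4
      rw [h4] at hD
      omega
    have h4 := Nat.mul_le_mul_left p (show 4 ≤ m0 h χ by omega)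
    have h5 := Finset.single_le_sum (f := fun ψ => pm h d c c ψ * (charDegree (ψ : G → ℂ) - (p + 1)))
      (fun _ _ => Nat.zero_le _) hχ
    have h6 := Nat.le_mul_of_pos_left (charDegree (χ : G → ℂ) - (p + 1)) (Nat.pos_of_ne_zero h0)
    omega
  have hX0 : X = 0 := Finset.sum_eq_zero fun χ hχ => by
    rcases Nat.eq_zero_or_pos (pm h d c c χ) with h0 | h0
    · rw [h0, zero_mul]
    · obtain ⟨-, hD⟩ := plus_eq h d hχ
      rw [hXdiv χ hχ h0.ne'] at hD
      rw [show charDegree (χ : G → ℂ) - (p + 1) = 0 by omega, mul_zero]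
  have hMzero : ∀ χ ∈ Minus h d, pm h d c c χ = 0 := fun χ hχ => Finset.sum_eq_zero_iff.mp hMi0 χ hχ
  have hY0 : Y = 0 := Finset.sum_eq_zero fun χ hχ => by rw [hMzero χ hχ, zero_mul]
  -- the outside part is one character of degree `p`
  have hOsq : ∑ χ ∈ Finset.univ.filter (fun χ => χ ∉ principalBlock M G), pm h d c c χ ^ 2 = 1 := by
    have hout : ∀ χ ∈ Finset.univ.filter (fun χ => χ ∉ principalBlock M G), charDegree (χ : G → ℂ) = p * m0 h χ := by
      intro χ hχ
      have h3 := excess_out h d (Finset.mem_filter.mp hχ).2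
      rw [excess, sub_eq_zero] at h3
      exact_mod_cast h3.symm
    have h3 : O = p * ∑ χ ∈ Finset.univ.filter (fun χ => χ ∉ principalBlock M G), pm h d c c χ * m0 h χ := by
      rw [hO, Finset.mul_sum]
      exact Finset.sum_congr rfl fun χ hχ => by rw [hout χ hχ]; ring
    have h4 : ∑ χ ∈ Finset.univ.filter (fun χ => χ ∉ principalBlock M G), pm h d c c χ * m0 h χ = 1 :=
      Nat.eq_of_mul_eq_mul_left h.hS.hp.pos (by omega)
    rw [← h4]
    refine Finset.sum_congr rfl fun χ hχ => ?_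
    have h5 := Finset.single_le_sum (f := fun χ => pm h d c c χ * m0 h χ) (fun _ _ => Nat.zero_le _) hχ
    have h6 : 1 ≤ m0 h χ := Nat.pos_of_ne_zero fun h0 => by
      have := hout χ hχ
      rw [h0, mul_zero] at this
      have := deg_pos h χ
      omega
    have h7 := Nat.le_mul_of_pos_right (pm h d c c χ) h6
    rcases Nat.eq_zero_or_pos (pm h d c c χ) with h0 | h0
    · rw [h0]; simp
    · have h8 : pm h d c c χ * m0 h χ ≤ 1 := h5.trans_eq h4
      rw [show pm h d c c χ = 1 by omega] at h8 ⊢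
      omega
  have hEeq : E = 1 := by
    obtain ⟨c₁, hc₁⟩ : 2 ∣ e := by
      have h3 := card_plus_minus h d
      by_contra hodd
      have hE0 : E = 0 := by omega
      rw [hE0] at hd h2
      have h4 : Nonempty ((ZMod p)ˣ ⧸ U h.hS (oneK x L : K x L → ℂ)) := inferInstance
      obtain ⟨c₀⟩ := h4
      have hrel := rel_apply h d (g := 1) (by rw [orderOf_one]; exact h.hS.hp.not_dvd_one) c₀
      simp only [← charDegree_cast, hε] at hrel
      have hrel' : (-1 : ℤ) - ∑ χ ∈ Plus h d, (charDegree (χ : G → ℂ) : ℤ) +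
          ∑ χ ∈ Minus h d, (charDegree (χ : G → ℂ) : ℤ) + (-1) * (charDegree (d.exc c₀ : G → ℂ) : ℤ) = 0 := by
        apply Int.cast_injective (α := ℂ)
        push_cast at hrel ⊢
        exact hrel
      have h5 : (2 : ℤ) ∣ ∑ χ ∈ Plus h d, (charDegree (χ : G → ℂ) : ℤ) :=
        Finset.dvd_sum fun χ hχ => Int.natCast_dvd_natCast.mpr (heven χ (Or.inl hχ))
      have h6 : (2 : ℤ) ∣ ∑ χ ∈ Minus h d, (charDegree (χ : G → ℂ) : ℤ) :=
        Finset.dvd_sum fun χ hχ => Int.natCast_dvd_natCast.mpr (heven χ (Or.inr hχ))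
      rw [hdeg] at hrel'
      omega
    omega
  have hPle : ∀ χ ∈ Plus h d, pm h d c c χ ≤ 1 := by
    intro χ hχ
    by_contra hlt
    obtain ⟨μ, hμ⟩ : ∃ μ, lin h χ μ ≠ 0 := by
      by_contra hcon
      push Not at hcon
      have := sum_lin h χ
      rw [hXdiv χ hχ (by omega), Finset.sum_eq_zero fun μ _ => hcon μ] at this
      omega
    have h3 := large_lin h d hε hp he2 hdeg c μ
    have h4 := Nat.mul_le_mul (show 2 ≤ pm h d c c χ by omega) (show 1 ≤ lin h χ μ by omega)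
    rw [← Finset.add_sum_erase _ _ (Finset.mem_univ (oneG G)), pm_oneG h d, if_pos rfl, one_mul] at h3
    have h5 := Finset.single_le_sum (f := fun ψ : IrrCharacter G => pm h d c c ψ * lin h ψ μ)
      (fun _ _ => Nat.zero_le _) (Finset.mem_erase.mpr ⟨((mem_Plus h d).mp hχ).2.2.1, Finset.mem_univ χ⟩)
    split_ifs at h3 with h6
    · subst h6
      have h7 : fixedPart p x ((oneG G : IrrCharacter G) : G → ℂ) = ((oneL L : IrrCharacter L) : L → ℂ) := by
        funext l
        show (p : ℂ)⁻¹ * ∑ i : ZMod p, (1 : ℂ) = 1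
        rw [Finset.sum_const, Finset.card_univ, ZMod.card, nsmul_eq_mul, mul_one,
          inv_mul_cancel₀ (Nat.cast_ne_zero.mpr h.hS.hp.ne_zero)]
      have h8 := lin_spec h (oneG G) (oneL L)
      rw [h7, Char.classInner_irr_self Char.isIrrCharacter_one, ← Nat.cast_one, Nat.cast_inj] at h8
      omega
    · omega
  refine ⟨by omega, fun χ hχ => ⟨hPle χ hχ, fun h0 => ?_⟩, ?_⟩
  · obtain ⟨-, hD⟩ := plus_eq h d hχ
    rw [hXdiv χ hχ h0] at hD
    exact ⟨by omega, hXdiv χ hχ h0⟩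
  · rw [sum_split h d, hOsq, pm_oneG h d, if_pos rfl,
      Finset.sum_congr (s₁ := Plus h d) rfl (g := fun χ => pm h d c c χ) (fun χ hχ => by
        have := hPle χ hχ
        interval_cases pm h d c c χ <;> rfl),
      Finset.sum_eq_zero (s := Minus h d) (fun χ hχ => by rw [hMzero χ hχ]; rfl),
      Finset.sum_congr (s₁ := (Finset.univ : Finset ((ZMod p)ˣ ⧸ U h.hS (oneK x L : K x L → ℂ)))) rfl
        (g := fun a => pm h d c c (d.exc a)) (fun a _ => by
        have := Finset.single_le_sum (f := fun a => pm h d c c (d.exc a)) (fun _ _ => Nat.zero_le _) (Finset.mem_univ a)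
        have h9 : pm h d c c (d.exc a) ≤ 1 := this.trans hE1
        interval_cases pm h d c c (d.exc a) <;> rfl)]
    omega

set_option maxHeartbeats 1000000 in
open scoped Classical in
theorem large_block :
    2 * (Plus h d).card + 2 = e ∧ (∀ χ ∈ Plus h d, charDegree (χ : G → ℂ) = p + 1 ∧ m0 h χ = 2) ∧
      ∀ χ ∈ Minus h d, charDegree (χ : G → ℂ) + 1 = p := by
  have ht : Fintype.card ((ZMod p)ˣ ⧸ U h.hS (oneK x L : K x L → ℂ)) = 2 := by
    rw [← Nat.card_eq_fintype_card, card_T h]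
    have h1 := h.hte
    exact Nat.eq_of_mul_eq_mul_right (show 0 < e by omega) (by omega)
  obtain ⟨c, c', hcc⟩ := Fintype.exists_pair_of_one_lt_card (show 1 < Fintype.card _ by rw [ht]; omega)
  obtain ⟨hP, hle, hnorm⟩ := large_diag h d hε hp he2 hdeg heven c
  obtain ⟨-, -, hnorm'⟩ := large_diag h d hε hp he2 hdeg heven c'
  have hd := deg_split h d c c'
  have hx := excess_split h d c c'
  rw [hdeg, hdeg, pm_oneG h d, if_neg hcc] at hd hx
  rw [hε] at hx
  have hpair : ∑ j : ZMod p, (mN h (d.exc c) j : ℤ) * mN h (d.exc c') j = (1 : ℤ) := by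
    exact_mod_cast (large_pair h d hε hp he2 hdeg c c').trans (if_neg hcc)
  rw [hpair, show ((p - 1 : ℕ) : ℤ) = 2 * e by omega, show (p : ℤ) = 2 * e + 1 by omega] at hx
  set P := ∑ χ ∈ Plus h d, pm h d c c' χ with hP'
  set Mi := ∑ χ ∈ Minus h d, pm h d c c' χ with hMi
  set E := ∑ a, pm h d c c' (d.exc a) with hE
  rw [← Nat.cast_sum, ← Nat.cast_sum, ← Nat.cast_sum, ← hP', ← hMi, ← hE] at hx
  push_cast at hx
  have hx' : 2 * (Mi : ℤ) = (e : ℤ) + 2 * P + E := by
    have : (e : ℤ) * (2 * (Mi : ℤ) - ((e : ℤ) + 2 * P + E)) = 0 := by linear_combination hx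
    rcases mul_eq_zero.mp this with h3 | h3 <;> omega
  have hEd : ∑ a, pm h d c c' (d.exc a) * charDegree (d.exc a : G → ℂ) = E * (e + 1) := by
    rw [hE, Finset.sum_mul]; exact Finset.sum_congr rfl fun a _ => by rw [hdeg]
  have hPD : P * (p + 1) ≤ ∑ χ ∈ Plus h d, pm h d c c' χ * charDegree (χ : G → ℂ) := by
    rw [hP', Finset.sum_mul]
    refine Finset.sum_le_sum fun χ hχ => Nat.mul_le_mul_left _ ?_
    obtain ⟨hm, hD⟩ := plus_eq h d hχ
    have := Nat.mul_le_mul_left p hm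
    omega
  have hMD : (∑ χ ∈ Minus h d, pm h d c c' χ * (charDegree (χ : G → ℂ) - (p - 1))) + Mi * (p - 1) =
      ∑ χ ∈ Minus h d, pm h d c c' χ * charDegree (χ : G → ℂ) := by
    rw [hMi, Finset.sum_mul, ← Finset.sum_add_distrib]
    refine Finset.sum_congr rfl fun χ hχ => ?_
    rw [← mul_add, Nat.sub_add_cancel]
    have := minus_eq h d hχ
    omega
  rw [hEd, ← hMD] at hd
  rw [show Mi * (p - 1) = 2 * Mi * e by rw [show p - 1 = 2 * e by omega]; ring] at hd
  rw [show P * (p + 1) = 2 * P * (e + 1) from (congrArg (fun q => P * (q + 1)) hp).trans (by ring)] at hPD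
  set X := ∑ χ ∈ Minus h d, pm h d c c' χ * (charDegree (χ : G → ℂ) - (p - 1)) with hX
  have h1 : 2 * Mi = e + 2 * P + E := by omega
  have h2 : 2 * Mi * e = (e + 2 * P + E) * e := by rw [h1]
  have hPE : 2 * P + E ≤ 1 := by
    refine Nat.le_of_mul_le_mul_right ?_ (show 0 < 2 * e + 1 by omega)
    linarith [Nat.zero_le X, Nat.zero_le (∑ χ ∈ Finset.univ.filter (fun χ => χ ∉ principalBlock M G),
      pm h d c c' χ * charDegree (χ : G → ℂ))]
  have he2' : 2 ∣ e := ⟨∑ χ ∈ Plus h d, pm h d c c χ + 1, by omega⟩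
  have hP0 : P = 0 := by omega
  have hE0 : E = 0 := by omega
  rw [hP0, hE0, add_zero, mul_zero, add_zero] at h2
  rw [hP0] at hPD
  rw [hE0] at hd
  set O := ∑ χ ∈ Finset.univ.filter (fun χ => χ ∉ principalBlock M G), pm h d c c' χ * charDegree (χ : G → ℂ) with hO
  have hXO : ∑ χ ∈ Plus h d, pm h d c c' χ * charDegree (χ : G → ℂ) = 0 :=
    Finset.sum_eq_zero fun χ hχ => by rw [Finset.sum_eq_zero_iff.mp hP0 χ hχ, zero_mul]
  have hXO' : X + O = p := by
    rw [hXO, h2] at hd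
    nlinarith
  have hXdiv : ∀ χ ∈ Minus h d, pm h d c c' χ ≠ 0 → m0 h χ = 0 := by
    intro χ hχ h0
    have hD := minus_eq h d hχ
    by_contra hne
    have hev := heven χ (Or.inr hχ)
    have h3 : m0 h χ ≠ 1 := by
      intro h4
      rw [h4] at hD
      omega
    have h4 := Nat.mul_le_mul_left p (show 2 ≤ m0 h χ by omega)
    have h5 := Finset.single_le_sum (f := fun ψ => pm h d c c' ψ * (charDegree (ψ : G → ℂ) - (p - 1)))
      (fun _ _ => Nat.zero_le _) hχ
    have h6 := Nat.le_mul_of_pos_left (charDegree (χ : G → ℂ) - (p - 1)) (Nat.pos_of_ne_zero h0)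
    omega
  have hX0 : X = 0 := Finset.sum_eq_zero fun χ hχ => by
    rcases Nat.eq_zero_or_pos (pm h d c c' χ) with h0 | h0
    · rw [h0, zero_mul]
    · have hD := minus_eq h d hχ
      rw [hXdiv χ hχ h0.ne'] at hD
      rw [show charDegree (χ : G → ℂ) - (p - 1) = 0 by omega, mul_zero]
  have hOpos : 1 ≤ ∑ χ ∈ Finset.univ.filter (fun χ => χ ∉ principalBlock M G), pm h d c c' χ ^ 2 := by
    by_contra hlt
    have h3 : O = 0 := Finset.sum_eq_zero fun χ hχ => by
      have := Finset.single_le_sum (f := fun χ => pm h d c c' χ ^ 2) (fun _ _ => Nat.zero_le _) hχ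
      have h5 : pm h d c c' χ ^ 2 = 0 := by omega
      rw [pow_eq_zero_iff two_ne_zero] at h5
      rw [h5, zero_mul]
    omega
  have hsq := sq_le h d c c'
  have hsq' : (∑ χ ∈ Minus h d, pm h d c c' χ ^ 2 + 1) * 2 ≤ e + 4 := by
    have h3 := sum_split h d (fun χ => pm h d c c' χ ^ 2)
    rw [h3] at hsq
    omega
  have hMle : ∀ χ ∈ Minus h d, pm h d c c' χ ≤ 1 := by
    intro χ hχ
    by_contra hgt
    have h3 : Mi + 2 ≤ ∑ ψ ∈ Minus h d, pm h d c c' ψ ^ 2 := by
      rw [hMi, ← Finset.add_sum_erase _ _ hχ, ← Finset.add_sum_erase _ _ hχ, add_right_comm]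
      refine Nat.add_le_add ?_ (Finset.sum_le_sum fun ψ _ => Nat.le_self_pow two_ne_zero _)
      have := Nat.mul_le_mul_right (pm h d c c' χ) (show 2 ≤ pm h d c c' χ by omega)
      rw [pow_two]
      omega
    omega
  have hr := card_plus_minus h d
  have hPle : ∑ χ ∈ Plus h d, pm h d c c χ ≤ (Plus h d).card := by
    rw [Finset.card_eq_sum_ones]; exact Finset.sum_le_sum fun χ hχ => (hle χ hχ).1
  have hMle' : Mi ≤ (Minus h d).card := by
    rw [hMi, Finset.card_eq_sum_ones]; exact Finset.sum_le_sum hMle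
  have hPall : ∀ χ ∈ Plus h d, pm h d c c χ = 1 := by
    refine (Finset.sum_eq_sum_iff_of_le (fun χ hχ => (hle χ hχ).1)).mp ?_
    rw [← Finset.card_eq_sum_ones]
    omega
  have hMall : ∀ χ ∈ Minus h d, pm h d c c' χ = 1 := by
    refine (Finset.sum_eq_sum_iff_of_le hMle).mp ?_
    rw [← Finset.card_eq_sum_ones]
    omega
  refine ⟨by omega, fun χ hχ => (hle χ hχ).2 (by rw [hPall χ hχ]; omega), fun χ hχ => ?_⟩
  have h3 := minus_eq h d hχ
  rw [hXdiv χ hχ (by rw [hMall χ hχ]; omega)] at h3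
  omega

set_option maxHeartbeats 800000 in
open scoped Classical in
theorem large_card [IsSimpleGroup G] (hnc : ∃ a b : G, a * b ≠ b * a) {b c : ℕ} (hc : e = 2 ^ c) (hc2 : 2 ≤ c)
    (hG : Nat.card G = 2 ^ b * (p * (e + 1))) : Nat.card (Sylow p G) = p + 1 := by
  obtain ⟨hcardP, hPlus, hMinus⟩ := large_block h d hε hp he2 hdeg heven
  obtain ⟨lam, hlam⟩ := large_apply_L h d hε hp he2 hdeg
  obtain ⟨c₀⟩ : Nonempty ((ZMod p)ˣ ⧸ U h.hS (oneK x L : K x L → ℂ)) := inferInstance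
  have he4 : 2 ^ 2 ∣ 2 ^ c := Nat.pow_dvd_pow 2 hc2
  rw [← hc] at he4
  have hpe : ¬ 2 ∣ p * (e + 1) := by rw [Nat.prime_two.dvd_mul]; omega
  have hb : 1 ≤ b := by
    refine Nat.pos_of_ne_zero fun h0 => ?_
    rw [h0, pow_zero, one_mul] at hG
    have h1 := L.card_subgroup_dvd_card
    rw [h.he, hG] at h1
    exact hpe ((show 2 ∣ e by omega).trans h1)
  obtain ⟨u, hu, g, hg⟩ := exists_central_involution hG hpe hb
  have hu1 : u ≠ 1 := fun e' => by rw [e', orderOf_one] at hu; omega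
  have hur : ¬ p ∣ orderOf u := by rw [hu, Nat.prime_dvd_prime_iff_eq h.hS.hp Nat.prime_two]; omega
  have hup := not_dvd_centralizer h hu1 hur
  have hidx : g * (Subgroup.centralizer ({u} : Set G)).index = p * (e + 1) := by
    have h1 := (Subgroup.centralizer ({u} : Set G)).card_mul_index
    rw [hG, hg, mul_assoc] at h1
    exact Nat.eq_of_mul_eq_mul_left (by positivity) h1
  have hMu : ∀ χ ∈ Minus h d, (χ : G → ℂ) u = 0 := fun χ hχ =>
    apply_eq_zero hnc h.hlin ((mem_Minus h d).mp hχ).2.2.1 hu1 (by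
      rw [show charDegree (χ : G → ℂ) = 2 ^ (c + 1) by have := hMinus χ hχ; rw [pow_succ, ← hc]; omega]
      refine Nat.Coprime.pow_left _ (Nat.prime_two.coprime_iff_not_dvd.mpr fun h2 => hpe ?_)
      rw [← hidx]
      exact h2.mul_left g)
  have hreal : ∀ χ : IrrCharacter G, (χ : G → ℂ) u * (χ : G → ℂ) u = ((‖(χ : G → ℂ) u‖ ^ 2 : ℝ) : ℂ) := by
    intro χ
    have h1 : conj ((χ : G → ℂ) u) = (χ : G → ℂ) u := by
      rw [← Char.IsCharacter.apply_inv (Char.IsIrrCharacter.isCharacter χ.2),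
        inv_eq_of_mul_eq_one_right (show u * u = 1 by rw [← pow_two, ← hu, pow_orderOf_eq_one])]
    push_cast
    rw [← Complex.mul_conj', h1]
  set S : ℝ := 1 + ∑ χ ∈ Plus h d, ‖(χ : G → ℂ) u‖ ^ 2 / (p + 1) + ‖(d.exc c₀ : G → ℂ) u‖ ^ 2 / (e + 1) with hSdef
  have hsum : ∑ χ : IrrCharacter G, (χ : G → ℂ) u * (χ : G → ℂ) u * conj ((χ : G → ℂ) x) / (χ : G → ℂ) 1 = (S : ℂ) := by
    rw [Finset.sum_congr rfl
        (g := fun χ : IrrCharacter G => (χ : G → ℂ) u * (χ : G → ℂ) u / (χ : G → ℂ) 1 * conj ((χ : G → ℂ) x))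
        (fun χ _ => by ring),
      sum_mul_apply_x h d _ c₀ (fun a => by
        simp only [exc_agree h d a c₀ hur, exc_agree h d a c₀ (g := 1) (by rw [orderOf_one]; exact h.hS.hp.not_dvd_one)]),
      Finset.sum_eq_zero (s := Minus h d) (fun χ hχ => by rw [hMu χ hχ]; simp),
      Finset.sum_congr rfl (g := fun χ : IrrCharacter G => ((‖(χ : G → ℂ) u‖ ^ 2 / ((p : ℝ) + 1) : ℝ) : ℂ)) (fun χ hχ => by
        rw [hreal, ← charDegree_cast, (hPlus χ hχ).1]; push_cast; rfl),
      hreal (d.exc c₀), ← charDegree_cast (d.exc c₀), hdeg, hε, hSdef,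
      show ((oneG G : IrrCharacter G) : G → ℂ) u = 1 from rfl, show ((oneG G : IrrCharacter G) : G → ℂ) 1 = 1 from rfl]
    push_cast
    ring
  have hS1 : 1 ≤ S := by
    rw [hSdef]
    have h1 : 0 ≤ ∑ χ ∈ Plus h d, ‖(χ : G → ℂ) u‖ ^ 2 / ((p : ℝ) + 1) := Finset.sum_nonneg fun _ _ => by positivity
    have h2 : 0 ≤ ‖(d.exc c₀ : G → ℂ) u‖ ^ 2 / ((e : ℝ) + 1) := by positivity
    linarith
  have h1 := class_mult u u x
  rw [hsum] at h1
  set N := Nat.card {q : G × G // IsConj u q.1 ∧ IsConj u q.2 ∧ q.1 * q.2 = x} with hNdef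
  have h1' : (N : ℝ) * Nat.card (Subgroup.centralizer ({u} : Set G)) * Nat.card (Subgroup.centralizer ({u} : Set G)) =
      Nat.card G * S := by
    apply Complex.ofReal_injective
    push_cast
    exact h1
  have hN : 0 < N := Nat.pos_of_ne_zero fun h0 => by
    rw [h0, Nat.cast_zero, zero_mul, zero_mul] at h1'
    have : (0 : ℝ) < Nat.card G := Nat.cast_pos.mpr Nat.card_pos
    nlinarith
  obtain ⟨⟨⟨a, a'⟩, ha, ha', haa⟩⟩ := (Nat.card_pos_iff.mp hN).1
  obtain ⟨j, hjo, hj⟩ := exists_conj_L h hu ha ha' haa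
  have hj1 : j ≠ 1 := fun e' => by rw [e', OneMemClass.coe_one, orderOf_one] at hjo; omega
  have hval : ∀ χ : IrrCharacter G, (χ : G → ℂ) u = (χ : G → ℂ) (j : G) := fun χ => by
    obtain ⟨y, hy⟩ := isConj_iff.mp hj
    rw [← hy, irr_class χ]
  obtain ⟨f, hf⟩ := irr_L_hom h lam
  obtain ⟨v, hv, hv1⟩ : ∃ v : ℤ, (d.exc c₀ : G → ℂ) u = v ∧ (v = 1 ∨ v = -1) := by
    have h2 : (lam : L → ℂ) j ^ 2 = 1 := by
      rw [← hf, ← map_pow, show j ^ 2 = 1 from Subtype.ext (by
        rw [Subgroup.coe_pow, OneMemClass.coe_one, ← hjo, pow_orderOf_eq_one]), map_one]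
    rw [hval, (hlam c₀).2 j hj1]
    rcases sq_eq_one_iff.mp h2 with h3 | h3
    · exact ⟨1, by rw [h3]; norm_num, Or.inl rfl⟩
    · exact ⟨-1, by rw [h3]; norm_num, Or.inr rfl⟩
  have hg1 : g = 1 := by
    have h2 := dvd_index_mul (d.exc c₀) hv
    rw [hdeg] at h2
    have h3 : e + 1 ∣ (Subgroup.centralizer ({u} : Set G)).index := by
      rcases hv1 with rfl | rfl
      · rw [mul_one, Int.natCast_dvd_natCast] at h2; exact h2
      · rw [mul_neg, mul_one, dvd_neg, Int.natCast_dvd_natCast] at h2; exact h2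
    obtain ⟨k, hk⟩ := h3
    rw [hk] at hidx
    have h4 : g * k = p := Nat.eq_of_mul_eq_mul_left (show 0 < e + 1 by omega) (by
      rw [mul_comm (e + 1) p, ← hidx]; ring)
    rcases (Nat.dvd_prime h.hS.hp).mp (Dvd.intro _ h4 : g ∣ p) with h5 | h5
    · exact h5
    · exact absurd (hg ▸ (h5 ▸ dvd_rfl : p ∣ g).mul_left _) hup
  rw [hg1, mul_one] at hg
  have hSle : S * ((e : ℝ) + 1) ≤ 2 * e := by
    have hp1 : (p : ℝ) + 1 = 2 * ((e : ℝ) + 1) := by
      have : (p : ℝ) = 2 * e + 1 := by exact_mod_cast hp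
      linarith
    have h2 : ∑ χ ∈ Plus h d, ‖(χ : G → ℂ) u‖ ^ 2 / ((p : ℝ) + 1) ≤ (Plus h d).card * (4 / ((p : ℝ) + 1)) := by
      rw [← nsmul_eq_mul, ← Finset.sum_const]
      refine Finset.sum_le_sum fun χ hχ => div_le_div_of_nonneg_right ?_ (by positivity)
      have h3 := norm_apply_le h χ hj1
      rw [(hPlus χ hχ).2, Nat.cast_two, ← hval] at h3
      nlinarith [norm_nonneg ((χ : G → ℂ) u)]
    have h4 : ‖(d.exc c₀ : G → ℂ) u‖ ^ 2 = 1 := by
      rcases hv1 with rfl | rfl <;> rw [hv] <;> norm_num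
    have h5 : 2 * ((Plus h d).card : ℝ) + 2 = (e : ℝ) := by exact_mod_cast hcardP
    rw [hSdef, h4, add_mul, add_mul, div_mul_cancel₀ _ (show (e : ℝ) + 1 ≠ 0 by positivity)]
    have h6 := mul_le_mul_of_nonneg_right h2 (show 0 ≤ (e : ℝ) + 1 by positivity)
    have h7 : ((Plus h d).card : ℝ) * (4 / ((p : ℝ) + 1)) * ((e : ℝ) + 1) = 2 * (Plus h d).card := by
      rw [hp1]; field_simp; ring
    linarith
  have hbound : 2 ^ b ≤ p * (2 * e) := by
    have h2 : (2 : ℝ) ^ b * (2 : ℝ) ^ b ≤ (2 : ℝ) ^ b * ((p : ℝ) * (2 * e)) := by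
      rw [hg, hG] at h1'
      push_cast at h1'
      have h3 : (1 : ℝ) ≤ N := by exact_mod_cast hN
      calc (2 : ℝ) ^ b * 2 ^ b ≤ (N : ℝ) * 2 ^ b * 2 ^ b := by
            rw [mul_assoc]; exact le_mul_of_one_le_left (by positivity) h3
        _ = (2 : ℝ) ^ b * (p : ℝ) * (S * ((e : ℝ) + 1)) := by rw [h1']; ring
        _ ≤ (2 : ℝ) ^ b * (p : ℝ) * (2 * e) := mul_le_mul_of_nonneg_left hSle (by positivity)
        _ = (2 : ℝ) ^ b * ((p : ℝ) * (2 * e)) := by ring
    have h4 := le_of_mul_le_mul_left h2 (by positivity)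
    exact_mod_cast h4
  -- the number of Sylow subgroups
  have hcount : Nat.card (Sylow p G) * e = 2 ^ b * (e + 1) := by
    refine Nat.eq_of_mul_eq_mul_right h.hS.hp.pos ?_
    rw [mul_assoc, card_sylow_mul h, hG]
    ring
  have hmod : p ∣ 2 ^ b + 1 := by
    have h2 := card_sylow_modEq_one p G
    have h3 : (2 * (Nat.card (Sylow p G) * e)) ≡ 2 * (1 * e) [MOD p] := (h2.mul_right e).mul_left 2
    rw [hcount, one_mul, show 2 * (2 ^ b * (e + 1)) = 2 ^ b * (p + 1) from
      Eq.trans (by ring) (congrArg (fun q => 2 ^ b * (q + 1)) hp.symm)] at h3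
    have h4 : 2 ^ b ≡ 2 ^ b * (p + 1) [MOD p] := by
      have : 2 ^ b * (p + 1) = p * 2 ^ b + 2 ^ b := by ring
      rw [this]
      exact (Nat.modulus_mul_add_modEq_iff.mpr (Nat.ModEq.refl _)).symm
    have h5 := (h4.trans h3).add_right 1
    have h6 : 2 * e + 1 ≡ 0 [MOD p] := by rw [← hp]; exact Nat.modEq_zero_iff_dvd.mpr dvd_rfl
    exact Nat.modEq_zero_iff_dvd.mp (h5.trans h6)
  have hbc : b = c + 1 := by
    have hw : p = 2 ^ (c + 1) + 1 := by rw [pow_succ, ← hc]; omega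
    rcases Nat.lt_or_ge b (c + 1) with hlt | hge
    · exfalso
      have h2 := Nat.le_of_dvd (by positivity) hmod
      have h3 : 2 ^ b < 2 ^ (c + 1) := Nat.pow_lt_pow_right (by norm_num) hlt
      omega
    · obtain ⟨i, rfl⟩ := Nat.exists_eq_add_of_le hge
      have hi : 2 ^ i ≤ p := by
        refine Nat.le_of_mul_le_mul_left ?_ (show 0 < 2 * e by omega)
        rw [mul_comm (2 * e) p]
        refine le_trans (le_of_eq ?_) hbound
        rw [pow_add, pow_succ, ← hc]; ring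
      have h2 : p ∣ 2 ^ i - 1 := by
        have h3 : p * 2 ^ i = 2 ^ (c + 1 + i) + 2 ^ i := by rw [hw, add_mul, one_mul, ← pow_add]
        have h4 := Nat.dvd_sub (dvd_mul_right p (2 ^ i)) hmod
        rwa [h3, Nat.add_sub_add_left] at h4
      have h5 : 1 ≤ 2 ^ i := Nat.one_le_two_pow
      have h6 : 2 ^ i - 1 = 0 := Nat.eq_zero_of_dvd_of_lt h2 (by omega)
      have h7 : i = 0 := by
        rcases Nat.eq_zero_or_pos i with h0 | h0
        · exact h0
        · have := Nat.one_lt_two_pow h0.ne'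
          omega
      rw [h7, add_zero]
  rw [hbc, pow_succ, ← hc] at hcount
  refine Nat.eq_of_mul_eq_mul_right (show 0 < e by omega) (hcount.trans ?_)
  exact Eq.trans (by ring) (congrArg (fun q => (q + 1) * e) hp.symm)

end Cfsg.Agent.BrauerTuan
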