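/-
A small character of a simple group of order `p * q ^ b * g₀` (namespace `Cfsg.Agent.BrauerTuan`).

Main results: `perfect_of_simple`, `kerSub_eq_bot`, `exists_small`.
-/
import Cfsg.Agent.Lib.BrauerTuan.General
import Cfsg.Agent.Lib.CyclicDefect.SmallDegree

set_option autoImplicit false
set_option linter.unusedSectionVars false
set_option linter.style.haveILetI false

open scoped ComplexConjugate

namespace Cfsg.Agent.BrauerTuan

open Cfsg Cfsg.Agent.Blocks Cfsg.Agent.CyclicDefect Cfsg.Agent.BrauerFewSylow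

variable {G : Type*} [Group G] [Finite G] [IsSimpleGroup G]

theorem exists_noncomm (hG : ¬ IsCyclic G) : ∃ a b : G, a * b ≠ b * a := by
  by_contra hcon
  push Not at hcon
  let i : CommGroup G := { (inferInstance : Group G) with mul_comm := hcon }
  exact hG (@IsSimpleGroup.isCyclic G i _)

theorem perfect_of_simple (hnc : ∃ a b : G, a * b ≠ b * a) : commutator G = ⊤ := by
  rcases IsSimpleGroup.eq_bot_or_eq_top_of_normal (commutator G) inferInstance with h1 | h1
  · obtain ⟨a, b, hab⟩ := hnc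
    exfalso
    refine hab ?_
    rw [← commutatorElement_eq_one_iff_mul_comm, ← Subgroup.mem_bot, ← h1, commutator_def]
    exact Subgroup.commutator_mem_commutator (Subgroup.mem_top a) (Subgroup.mem_top b)
  · exact h1

theorem linear_trivial (hperf : commutator G = ⊤) (χ : IrrCharacter G) (hχ : charDegree (χ : G → ℂ) = 1) :
    χ = oneG G := by
  have h1 : (χ : G → ℂ) 1 = 1 := by rw [← charDegree_cast, hχ, Nat.cast_one]
  obtain ⟨l, hl⟩ := Char.exists_hom_of_degree_one (Char.IsIrrCharacter.isCharacter χ.2) h1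
  refine Subtype.ext (funext fun g => ?_)
  have h2 : l.toHomUnits g = 1 :=
    MonoidHom.mem_ker.mp (Abelianization.commutator_subset_ker l.toHomUnits (hperf ▸ Subgroup.mem_top g))
  have h3 := congrArg Units.val h2
  rw [MonoidHom.coe_toHomUnits] at h3
  show (χ : G → ℂ) g = 1
  rw [← hl]
  exact h3

theorem kerSub_eq_bot (hlin : ∀ χ : IrrCharacter G, charDegree (χ : G → ℂ) = 1 → χ = oneG G) {χ : IrrCharacter G}
    (hχ : χ ≠ oneG G) : Codegree.kerSub χ = ⊥ := by
  rcases IsSimpleGroup.eq_bot_or_eq_top_of_normal (Codegree.kerSub χ) (Codegree.kerSub_normal χ) with h1 | h1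
  · exact h1
  exfalso
  have hfun : (χ : G → ℂ) = (charDegree (χ : G → ℂ) : ℂ) • (1 : G → ℂ) := by
    funext g
    rw [Pi.smul_apply, Pi.one_apply, smul_eq_mul, mul_one, charDegree_cast]
    exact Codegree.mem_kerSub.mp (h1 ▸ Subgroup.mem_top g)
  haveI := Fintype.ofFinite G
  have h2 := Char.classInner_irr_self χ.2
  rw [hfun, Char.classInner_smul_left, Char.classInner_smul_right, Char.classInner_irr_self Char.isIrrCharacter_one,
    mul_one, Complex.conj_natCast, ← Nat.cast_mul, Nat.cast_eq_one] at h2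
  exact hχ (hlin χ (Nat.eq_one_of_mul_eq_one_right h2))

variable {p : ℕ} [Fact p.Prime] {x : G} {L : Subgroup G} (hS : Setting p x L)
  {M : Ideal AlgInt} (hM : IsPModular p M)
include hS hM

set_option maxHeartbeats 1000000 in
open scoped Classical in
theorem exists_small (hlin : ∀ χ : IrrCharacter G, charDegree (χ : G → ℂ) = 1 → χ = oneG G) {q b g₀ : ℕ}
    (hq : q.Prime) (hG : Nat.card G = p * q ^ b * g₀) (hg : g₀ < p - 1) :
    ∃ χ : IrrCharacter G, χ ∈ principalBlock M G ∧ χ ≠ oneG G ∧ ¬ q ∣ charDegree (χ : G → ℂ) ∧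
      charDegree (χ : G → ℂ) ∣ g₀ ∧ Subsingleton (K x L) := by
  haveI := Fintype.ofFinite G
  haveI := Fintype.ofFinite (IrrCharacter G)
  haveI := Fintype.ofFinite (K x L)
  haveI := Fintype.ofFinite (IrrCharacter (K x L))
  obtain ⟨hP, h1P⟩ := principal_isPBlock (G := G) hM
  have hl := lies_principal hS hM
  obtain ⟨-, exc, ε, δ, hinj, hexcB, hε, hexc, hcst, hrel⟩ := block_structure hS hM hP hl
  have hnot : ∀ φ : IrrCharacter (K x L), φ ≠ oneK x L → ¬ Lies M x L (principalBlock M G) φ := by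
    intro φ hφ hc
    obtain ⟨l, hl'⟩ := orbit hS hM hP hl hc
    exact hφ (hl'.symm.trans (Subtype.ext (funext fun k => rfl)))
  have hrows : ∀ χ ∈ principalBlock M G, ∀ φ : IrrCharacter (K x L), φ ≠ oneK x L →
      ∑ j : ZMod p, multN hS χ φ j = p * multN hS χ φ 0 := by
    intro χ hχ φ hφ
    rw [Finset.sum_congr rfl (g := fun _ => multN hS χ φ 0) (fun j _ => multN_of_not_lies hS hM χ
        (by rw [← isPBlock_eq_blockOf hM hP hχ]; exact hnot φ hφ) j),
      Finset.sum_const, Finset.card_univ, ZMod.card, smul_eq_mul]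
  have hone : charDegree ((oneK x L : IrrCharacter (K x L)) : K x L → ℂ) = 1 :=
    Nat.cast_injective (R := ℂ) (by rw [charDegree_cast, Nat.cast_one]; rfl)
  set w := Nat.card (U hS (oneK x L : K x L → ℂ)) with hw
  have hwp := card_units_eq hS (oneK x L : K x L → ℂ)
  have hp2 := (Fact.out : p.Prime).two_le
  have hw1 : 1 ≤ w := Nat.card_pos
  have hwle : w ≤ p - 1 := hwp ▸ Nat.le_mul_of_pos_right _ Nat.card_pos
  -- no member has degree divisible by `p`
  have hnp : ∀ χ ∈ principalBlock M G, ¬ p ∣ charDegree (χ : G → ℂ) := by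
    intro χ hχ hd
    rw [charDegree_eq_sum hS χ, ← Finset.add_sum_erase _ _ (Finset.mem_univ (oneK x L)), hone, one_mul] at hd
    have h2 : p ∣ ∑ φ ∈ Finset.univ.erase (oneK x L), charDegree ((φ : IrrCharacter (K x L)) : K x L → ℂ) *
        ∑ j : ZMod p, multN hS χ φ j :=
      Finset.dvd_sum fun φ hφ => by
        rw [hrows χ hχ φ (Finset.ne_of_mem_erase hφ)]
        exact (dvd_mul_right p _).mul_left _
    have h3 : (p : ℤ) ∣ ((∑ j : ZMod p, multN hS χ (oneK x L) j : ℕ) : ℤ) :=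
      Int.natCast_dvd_natCast.mpr ((Nat.dvd_add_left h2).mp hd)
    have h4 : (p : ℤ) ∣ ∑ u : (ZMod p)ˣ, bInt hS χ (oneK x L) (u : ZMod p) := by
      rw [sum_bInt_eq hS χ (oneK x L)]
      exact dvd_sub h3 (dvd_mul_right _ _)
    have h5 : ∀ a : ℕ, 1 ≤ a → a ≤ p - 1 → ¬ p ∣ a := fun a ha ha' hd' => by
      have := Nat.le_of_dvd ha hd'
      omega
    by_cases hr : χ ∈ Set.range exc
    · obtain ⟨c, rfl⟩ := hr
      rw [sum_bInt_exc hS (hexc c)] at h4
      rcases hε with h6 | h6 <;> rw [h6] at h4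
      · rw [one_mul, Int.natCast_dvd_natCast] at h4; exact h5 w hw1 hwle h4
      · rw [neg_one_mul, dvd_neg, Int.natCast_dvd_natCast] at h4; exact h5 w hw1 hwle h4
    · obtain ⟨hδ, hrow⟩ := hcst χ hχ hr
      rw [sum_bInt_const hS hrow] at h4
      rcases hδ with h6 | h6 <;> rw [h6] at h4
      · rw [one_mul, Int.natCast_dvd_natCast] at h4; exact h5 (p - 1) (by omega) le_rfl h4
      · rw [neg_one_mul, dvd_neg, Int.natCast_dvd_natCast] at h4; exact h5 (p - 1) (by omega) le_rfl h4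
  -- a member of degree prime to `q`
  obtain ⟨χ, hχ, hχ1, hχq⟩ : ∃ χ, χ ∈ principalBlock M G ∧ χ ≠ oneG G ∧ ¬ q ∣ charDegree (χ : G → ℂ) := by
    by_contra hcon
    push Not at hcon
    have hdeg1 : charDegree ((oneG G : IrrCharacter G) : G → ℂ) = 1 :=
      Nat.cast_injective (R := ℂ) (by rw [charDegree_cast, Nat.cast_one]; rfl)
    set F := Finset.univ.filter (fun χ => χ ∈ principalBlock M G ∧ χ ∉ Set.range exc) with hF
    have hrel1 : ∀ c, ∑ χ ∈ F, δ χ * (charDegree (χ : G → ℂ) : ℤ) + ε * (charDegree (exc c : G → ℂ) : ℤ) = 0 := by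
      intro c
      apply Int.cast_injective (α := ℂ)
      have h2 := hrel 1 (by rw [orderOf_one]; exact (Fact.out : p.Prime).not_dvd_one) c
      push_cast
      simp only [charDegree_cast]
      refine Eq.trans ?_ h2
      refine congrArg₂ (· + ·) (Finset.sum_congr ?_ fun _ _ => rfl) rfl
      ext a
      simp only [hF, Finset.mem_filter]
    have hmem : ∀ χ ∈ F, χ ≠ oneG G → (q : ℤ) ∣ δ χ * (charDegree (χ : G → ℂ) : ℤ) := fun χ hχ hne =>
      (Int.natCast_dvd_natCast.mpr (hcon χ (Finset.mem_filter.mp hχ).2.1 hne)).mul_left _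
    have hq1 : ¬ (q : ℤ) ∣ 1 := fun h2 => hq.not_dvd_one (Int.natCast_dvd_natCast.mp (by exact_mod_cast h2))
    by_cases hone : oneG G ∈ Set.range exc
    · obtain ⟨c, hc⟩ := hone
      have h2 := hrel1 c
      rw [hc, hdeg1, Nat.cast_one, mul_one] at h2
      have h3 : (q : ℤ) ∣ ε := by
        have h4 : (q : ℤ) ∣ ∑ χ ∈ F, δ χ * (charDegree (χ : G → ℂ) : ℤ) := Finset.dvd_sum fun χ hχ =>
          hmem χ hχ fun e' => (Finset.mem_filter.mp hχ).2.2 (e' ▸ ⟨c, hc⟩)
        rw [show ε = -(∑ χ ∈ F, δ χ * (charDegree (χ : G → ℂ) : ℤ)) by linarith]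
        exact h4.neg_right
      rcases hε with h6 | h6 <;> rw [h6] at h3
      · exact hq1 h3
      · exact hq1 (dvd_neg.mp h3)
    · obtain ⟨c⟩ : Nonempty ((ZMod p)ˣ ⧸ U hS (oneK x L : K x L → ℂ)) := inferInstance
      have h2 := hrel1 c
      have hmemone : oneG G ∈ F := Finset.mem_filter.mpr ⟨Finset.mem_univ _, h1P, hone⟩
      rw [← Finset.add_sum_erase _ _ hmemone, hdeg1, Nat.cast_one, mul_one] at h2
      have h3 : (q : ℤ) ∣ δ (oneG G) := by
        have h4 : (q : ℤ) ∣ ∑ χ ∈ F.erase (oneG G), δ χ * (charDegree (χ : G → ℂ) : ℤ) :=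
          Finset.dvd_sum fun χ hχ => hmem χ (Finset.mem_of_mem_erase hχ) (Finset.ne_of_mem_erase hχ)
        have h5 : (q : ℤ) ∣ ε * (charDegree (exc c : G → ℂ) : ℤ) :=
          (Int.natCast_dvd_natCast.mpr (hcon (exc c) (hexcB c) (fun e' => hone ⟨c, e'⟩))).mul_left _
        rw [show δ (oneG G) = -((∑ χ ∈ F.erase (oneG G), δ χ * (charDegree (χ : G → ℂ) : ℤ)) +
          ε * (charDegree (exc c : G → ℂ) : ℤ)) by linarith]
        exact (dvd_add h4 h5).neg_right
      rcases (hcst _ h1P hone).1 with h6 | h6 <;> rw [h6] at h3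
      · exact hq1 h3
      · exact hq1 (dvd_neg.mp h3)
  have hdvd : charDegree (χ : G → ℂ) ∣ g₀ := by
    have h1 := Codegree.deg_dvd_card χ
    rw [hG] at h1
    have h2 : Nat.Coprime (charDegree (χ : G → ℂ)) (p * q ^ b) :=
      (((Fact.out : p.Prime).coprime_iff_not_dvd.mpr (hnp χ hχ)).symm).mul_right
        ((hq.coprime_iff_not_dvd.mpr hχq).pow_left b).symm
    exact h2.dvd_of_dvd_mul_left h1
  refine ⟨χ, hχ, hχ1, hχq, hdvd, ?_⟩
  have hg0 : 0 < g₀ := Nat.pos_of_ne_zero fun h0 => by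
    rw [h0, mul_zero] at hG
    exact Nat.card_pos.ne' hG
  have hsmall : charDegree (χ : G → ℂ) < p := by
    have := Nat.le_of_dvd hg0 hdvd
    omega
  have hdec : ∀ φ : IrrCharacter (K x L), φ ≠ oneK x L → ∑ j : ZMod p, multN hS χ φ j = 0 := by
    intro φ hφ
    have h1 := sum_multN_le hS χ φ
    rw [hrows χ hχ φ hφ] at h1 ⊢
    rcases Nat.eq_zero_or_pos (multN hS χ φ 0) with h0 | h0
    · rw [h0, mul_zero]
    · have := Nat.le_mul_of_pos_right p h0
      omega
  refine ⟨fun a b => ?_⟩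
  suffices hall : ∀ k : K x L, k = 1 from (hall a).trans (hall b).symm
  intro k
  have h1 : ∀ k : K x L, (χ : G → ℂ) ((k : L) : G) = ((∑ j : ZMod p, multN hS χ (oneK x L) j : ℕ) : ℂ) := by
    intro k
    have h2 := apply_eq_sum hS (irr_class χ) (0 : ZMod p) k
    rw [hS.pw_zero, one_mul, Finset.sum_eq_single (oneK x L) (fun φ _ hφ => by
      rw [dec_zero_eq hS, hdec φ hφ, Nat.cast_zero, zero_mul]) (fun h' => absurd (Finset.mem_univ _) h'),
      dec_zero_eq hS, show ((oneK x L : IrrCharacter (K x L)) : K x L → ℂ) k = 1 from rfl, mul_one] at h2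
    exact h2
  have hmem : (((k : L) : G)) ∈ Codegree.kerSub χ := by
    rw [Codegree.mem_kerSub, h1 k, ← h1 1]
    simp
  rw [kerSub_eq_bot hlin hχ1, Subgroup.mem_bot] at hmem
  exact Subtype.ext (Subtype.ext hmem)

end Cfsg.Agent.BrauerTuan
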