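/-
An exceptional degree `p - 2` (namespace `Cfsg.Agent.BrauerTuan`).

Main results: `two_card` (`p - 1` is a power of two and `(p - 1) (p - 2) / 2` Sylow subgroups).
-/
import Cfsg.Agent.Lib.BrauerTuan.Products
import Cfsg.Agent.Lib.BrauerTuan.General

set_option autoImplicit false
set_option linter.unusedSectionVars false
set_option linter.style.haveILetI false

open scoped ComplexConjugate

namespace Cfsg.Agent.BrauerTuan

open Cfsg Cfsg.Agent.Blocks Cfsg.Agent.CyclicDefect Cfsg.Agent.BrauerFewSylow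

variable {G : Type*} [Group G] [Fintype G] {p : ℕ} [Fact p.Prime] {x : G} {L : Subgroup G}
  {e t : ℕ} (h : Core p x L e t) {M : Ideal AlgInt} (d : Data h M)
  [Fintype (IrrCharacter G)]
include h d

open scoped Classical in
theorem two_card [IsSimpleGroup G] (hnc : ∃ a b : G, a * b ≠ b * a) (hε : d.ε = -1) (he : e = 2) (hp5 : 5 ≤ p)
    (hdeg : ∀ c, charDegree (d.exc c : G → ℂ) + 2 = p) {b : ℕ} (hG : Nat.card G = 2 ^ b * (p * (p - 2))) :
    ∃ m : ℕ, p - 1 = 2 ^ m ∧ 2 * Nat.card (Sylow p G) = (p - 1) * (p - 2) := by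
  obtain ⟨c₀⟩ : Nonempty ((ZMod p)ˣ ⧸ U h.hS (oneK x L : K x L → ℂ)) := inferInstance
  obtain ⟨k₀, hk₀⟩ := h.hS.hp.odd_of_ne_two (by omega)
  have hpar := card_plus_minus h d
  replace hpar := hpar.trans he
  have hrel := rel_apply h d (g := 1) (by rw [orderOf_one]; exact h.hS.hp.not_dvd_one) c₀
  simp only [← charDegree_cast, hε] at hrel
  have hrel' : (-1 : ℤ) - ∑ χ ∈ Plus h d, (charDegree (χ : G → ℂ) : ℤ) + ∑ χ ∈ Minus h d, (charDegree (χ : G → ℂ) : ℤ) +
      (-1) * (charDegree (d.exc c₀ : G → ℂ) : ℤ) = 0 := by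
    apply Int.cast_injective (α := ℂ)
    push_cast at hrel ⊢
    exact hrel
  have hP0 : (Plus h d).card = 0 := by
    by_contra hne
    have hM0 : Minus h d = ∅ := Finset.card_eq_zero.mp (by omega)
    rw [hM0, Finset.sum_empty] at hrel'
    have : (0 : ℤ) ≤ ∑ χ ∈ Plus h d, (charDegree (χ : G → ℂ) : ℤ) := Finset.sum_nonneg fun _ _ => by positivity
    omega
  obtain ⟨ψ, hψ⟩ := Finset.card_eq_one.mp (show (Minus h d).card = 1 by omega)
  rw [hψ, Finset.card_eq_zero.mp hP0, Finset.sum_empty, Finset.sum_singleton] at hrel'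
  have hψdeg : charDegree (ψ : G → ℂ) = p - 1 := by have := hdeg c₀; omega
  have hodd : ¬ 2 ∣ p * (p - 2) := by rw [Nat.prime_two.dvd_mul]; omega
  have hm : p - 1 ∣ 2 ^ b := by
    have h1 := Codegree.deg_dvd_card ψ
    rw [hψdeg, hG] at h1
    refine (Nat.Coprime.mul_right ?_ ?_).dvd_of_dvd_mul_right h1
    · exact ((Nat.coprime_self_sub_left (by omega)).mpr (Nat.coprime_one_left p))
    · refine Nat.coprime_of_dvd fun q hq h2 h3 => hq.not_dvd_one ?_
      have := Nat.dvd_sub h2 h3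
      rwa [show p - 1 - (p - 2) = 1 by omega] at this
  obtain ⟨m, -, hm'⟩ := (Nat.dvd_prime_pow Nat.prime_two).mp hm
  refine ⟨m, hm', ?_⟩
  have hb : 1 ≤ b := Nat.pos_of_ne_zero fun h0 => by
    rw [h0, pow_zero, Nat.dvd_one] at hm; omega
  obtain ⟨u, hu, g, hg⟩ := exists_central_involution hG hodd hb
  have hu1 : u ≠ 1 := fun e' => by rw [e', orderOf_one] at hu; omega
  have hur : ¬ p ∣ orderOf u := by rw [hu, Nat.prime_dvd_prime_iff_eq h.hS.hp Nat.prime_two]; omega
  have hup := not_dvd_centralizer h hu1 hur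
  have hidx : g * (Subgroup.centralizer ({u} : Set G)).index = p * (p - 2) := by
    have h1 := (Subgroup.centralizer ({u} : Set G)).card_mul_index
    rw [hG, hg, mul_assoc] at h1
    exact Nat.eq_of_mul_eq_mul_left (by positivity) h1
  have hψu : (ψ : G → ℂ) u = 0 := by
    refine apply_eq_zero hnc h.hlin ((mem_Minus h d).mp (hψ ▸ Finset.mem_singleton_self ψ)).2.2.1 hu1 ?_
    rw [hψdeg, hm']
    refine Nat.Coprime.pow_left m (Nat.prime_two.coprime_iff_not_dvd.mpr fun h2 => hodd ?_)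
    rw [← hidx]
    exact h2.mul_left g
  have hθ : ∀ c, (d.exc c : G → ℂ) u = -1 := by
    intro c
    have h1 := rel_apply h d hur c
    rw [hψ, Finset.card_eq_zero.mp hP0, Finset.sum_empty, Finset.sum_singleton, hψu, hε] at h1
    push_cast at h1
    linear_combination -h1
  have hg1 : g = 1 := by
    have h1 := dvd_index_mul (d.exc c₀) (u := u) (v := -1) (by rw [hθ]; norm_num)
    rw [mul_neg, mul_one, dvd_neg, Int.natCast_dvd_natCast, show charDegree (d.exc c₀ : G → ℂ) = p - 2 by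
      have := hdeg c₀; omega] at h1
    obtain ⟨k, hk⟩ := h1
    rw [hk] at hidx
    have h2 : g * k = p := Nat.eq_of_mul_eq_mul_left (show 0 < p - 2 by omega) (by
      rw [mul_comm (p - 2) p, ← hidx]; ring)
    rcases (Nat.dvd_prime h.hS.hp).mp (Dvd.intro _ h2 : g ∣ p) with h3 | h3
    · exact h3
    · exact absurd (hg ▸ (h3 ▸ dvd_rfl : p ∣ g).mul_left _) hup
  rw [hg1, mul_one] at hg
  haveI := Fintype.ofFinite ((ZMod p)ˣ ⧸ U h.hS (oneK x L : K x L → ℂ))
  have h1 := class_mult u u x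
  have hp2 : ((p - 2 : ℕ) : ℂ) ≠ 0 := Nat.cast_ne_zero.mpr (by omega)
  have hsum : ∑ χ : IrrCharacter G, (χ : G → ℂ) u * (χ : G → ℂ) u * conj ((χ : G → ℂ) x) / (χ : G → ℂ) 1 =
      1 + 1 / ((p - 2 : ℕ) : ℂ) := by
    rw [Finset.sum_congr rfl
        (g := fun χ : IrrCharacter G => (χ : G → ℂ) u * (χ : G → ℂ) u / (χ : G → ℂ) 1 * conj ((χ : G → ℂ) x))
        (fun χ _ => by ring),
      sum_mul_apply_x h d _ c₀ (fun c => by
        simp only [hθ, ← charDegree_cast]
        rw [show charDegree (d.exc c : G → ℂ) = charDegree (d.exc c₀ : G → ℂ) by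
          have := hdeg c; have := hdeg c₀; omega]),
      Finset.card_eq_zero.mp hP0, Finset.sum_empty, hψ, Finset.sum_singleton, hψu, hε, hθ,
      ← charDegree_cast (d.exc c₀), show charDegree (d.exc c₀ : G → ℂ) = p - 2 by have := hdeg c₀; omega]
    simp
  rw [hsum, hG, hg] at h1
  have hN : Nat.card {q : G × G // IsConj u q.1 ∧ IsConj u q.2 ∧ q.1 * q.2 = x} * 2 ^ b = p * 2 ^ m := by
    rw [← hm']
    apply Nat.cast_injective (R := ℂ)
    refine mul_left_cancel₀ (show ((2 ^ b : ℕ) : ℂ) ≠ 0 from Nat.cast_ne_zero.mpr (by positivity)) ?_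
    have h3 : ((p - 1 : ℕ) : ℂ) = ((p - 2 : ℕ) : ℂ) + 1 := by
      rw [show p - 1 = p - 2 + 1 by omega, Nat.cast_add, Nat.cast_one]
    rw [mul_add, mul_one, mul_one_div, Nat.cast_mul (2 ^ b), Nat.cast_mul p, ← mul_assoc,
      mul_div_cancel_right₀ _ hp2] at h1
    rw [Nat.cast_mul, Nat.cast_mul, h3]
    linear_combination h1
  have hbm : 2 ^ b ∣ 2 ^ m := by
    refine (Nat.Coprime.pow_left b (Nat.prime_two.coprime_iff_not_dvd.mpr (show ¬ 2 ∣ p by omega))).dvd_of_dvd_mul_left ?_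
    exact Dvd.intro_left _ hN
  have h3 := card_sylow_mul h
  rw [he, hG, show 2 ^ b = p - 1 from Nat.dvd_antisymm (hm' ▸ hbm) hm] at h3
  refine Nat.eq_of_mul_eq_mul_right h.hS.hp.pos ?_
  calc 2 * Nat.card (Sylow p G) * p = Nat.card (Sylow p G) * (2 * p) := by ring
    _ = (p - 1) * (p - 2) * p := by rw [h3]; ring

end Cfsg.Agent.BrauerTuan
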