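/-
Simple groups of order `p * q ^ b * g₀` with `g₀ < p - 1` (namespace `Cfsg.Agent.BrauerTuan`).

Main results: `sylow_bound` (at most `(p + 1) (p + 2) / 2` Sylow subgroups and `p` is next to a power of two).
-/
import Cfsg.Agent.Lib.BrauerTuan.HalfCase
import Cfsg.Agent.Lib.BrauerTuan.TwoCase
import Cfsg.Agent.Lib.BrauerTuan.LargeCase
import Cfsg.Agent.Lib.BrauerTuan.Small
import Cfsg.Agent.S4503

set_option autoImplicit false
set_option linter.unusedSectionVars false
set_option linter.style.haveILetI false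

namespace Cfsg.Agent.BrauerTuan

open Cfsg Cfsg.Agent.Blocks Cfsg.Agent.CyclicDefect Cfsg.Agent.BrauerFewSylow

set_option maxHeartbeats 1000000 in
open scoped Classical in
/-- The structure of the numbers. -/
theorem sylow_bound {G : Type*} [Group G] [Finite G] [IsSimpleGroup G] (hG : ¬ IsCyclic G) {p q b g₀ : ℕ}
    (hp : p.Prime) (hq : q.Prime) (hpq : p ≠ q) (hG' : Nat.card G = p * q ^ b * g₀) (hg : g₀ < p - 1) :
    ∃ z : G, orderOf z = p ∧ Subgroup.centralizer ({z} : Set G) = Subgroup.zpowers z ∧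
      2 * Nat.card (Sylow p G) < (p + 1) * (p + 2) ∧
      ((∃ m, p + 1 = 2 ^ m) ∨ ∃ m, p = 2 ^ m + 1) := by
  haveI : Fact p.Prime := ⟨hp⟩
  haveI := Fintype.ofFinite G
  have hnc := exists_noncomm hG
  have hperf := perfect_of_simple hnc
  have hlin := linear_trivial hperf
  have hg0 : 0 < g₀ := Nat.pos_of_ne_zero fun h0 => by
    rw [h0, mul_zero] at hG'
    exact Nat.card_pos.ne' hG'
  have hdvd : p ∣ Nat.card G := hG' ▸ (dvd_mul_right p (q ^ b)).mul_right g₀
  have hnpg : ¬ p ∣ q ^ b * g₀ := by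
    rw [hp.dvd_mul]
    rintro (h1 | h1)
    · exact hpq ((Nat.prime_dvd_prime_iff_eq hp hq).mp (hp.dvd_of_dvd_pow h1))
    · have := Nat.le_of_dvd hg0 h1
      omega
  have hsq : ¬ p ^ 2 ∣ Nat.card G := fun h1 => hnpg (by
    rw [hG', pow_two, mul_assoc] at h1
    exact Nat.dvd_of_mul_dvd_mul_left hp.pos h1)
  obtain ⟨x, hx⟩ := exists_prime_orderOf_dvd_card' p hdvd
  obtain ⟨L, hS⟩ := CyclicDefect.exists_setting hp hx hsq
  obtain ⟨M, hM⟩ := exists_isPModular hp
  obtain ⟨χ, hχB, hχ1, hχq, hχg, hK⟩ := exists_small hS hM hlin hq hG' hg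
  set D := charDegree (χ : G → ℂ) with hDdef
  have hDle : D ≤ g₀ := Nat.le_of_dvd hg0 hχg
  have hD2 : 2 ≤ D := by
    have h1 : D ≠ 1 := fun e' => hχ1 (hlin χ e')
    have := charDegree_pos χ
    omega
  have halpha : Function.Injective (CyclicDefect.alpha hS) := by
    haveI := hK
    rw [← MonoidHom.ker_eq_bot_iff, CyclicDefect.ker_alpha hS]
    exact Subgroup.eq_bot_of_subsingleton _
  obtain ⟨t, ht⟩ : Nat.card L ∣ p - 1 := by
    have := Subgroup.card_dvd_of_injective _ halpha
    rwa [Nat.card_eq_fintype_card (α := (ZMod p)ˣ), ZMod.card_units] at this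
  set e := Nat.card L with hedef
  have h : Core p x L e t := ⟨hS, hK, by omega, rfl, by rw [ht, mul_comm], hlin⟩
  obtain ⟨d⟩ := exists_data h hM
  haveI := Fintype.ofFinite (IrrCharacter G)
  haveI := Fintype.ofFinite (IrrCharacter L)
  haveI := Fintype.ofFinite L
  haveI := Fintype.ofFinite ((ZMod p)ˣ ⧸ U h.hS (oneK x L : K x L → ℂ))
  refine ⟨x, hx, le_antisymm (fun g hg' => centralizer_x h (Subgroup.mem_centralizer_singleton_iff.mp hg').symm)
    (Subgroup.zpowers_le.mpr (Subgroup.mem_centralizer_singleton_iff.mpr rfl)), ?_⟩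
  have he1 := e_pos h
  have ht1 := t_pos h
  have hte : t * e = p - 1 := h.hte
  have hele : e ≤ p - 1 := hte ▸ Nat.le_mul_of_pos_left e ht1
  -- the small character is exceptional
  obtain ⟨c₀, hc₀⟩ : χ ∈ Set.range d.exc := by
    rcases mem_cases h d χ with h1 | h1 | h1 | h1 | h1
    · exact absurd h1 hχ1
    · exfalso
      obtain ⟨hm, hD⟩ := plus_eq h d h1
      rw [← hDdef] at hD
      have := Nat.mul_le_mul_left p hm
      omega
    · exfalso
      have hD := minus_eq h d h1
      rw [← hDdef] at hD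
      omega
    · exact h1
    · exact absurd hχB h1
  have hall : ∀ c, charDegree (d.exc c : G → ℂ) = D := fun c => by rw [exc_deg_eq h d c c₀, hc₀]
  have hDeq : (D : ℤ) = p * m0 h χ + d.ε * e := by
    have := exc_eq h d c₀
    rwa [hc₀] at this
  have hm01 : m0 h χ ≤ 1 := by
    by_contra hgt
    have h2 : (p : ℤ) * 2 ≤ p * m0 h χ := mul_le_mul_of_nonneg_left (by omega) (by positivity)
    rcases d.hε with h3 | h3 <;> rw [h3] at hDeq <;> omega
  have hsyl := card_sylow_mul h
  rcases d.hε with hε | hε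
  · -- the degree is `e`
    have hDe : D = e := by
      rw [hε, one_mul] at hDeq
      interval_cases m0 h χ <;> omega
    have hp2e : p = 2 * e + 1 := by
      have h1 := S4503.result p hp hdvd hsq (fun H hH hc => by
        rcases IsSimpleGroup.eq_bot_or_eq_top_of_normal H hH with h2 | h2
        · rw [h2, Subgroup.card_bot] at hc
          exact hp.ne_one hc.symm
        · rw [h2, Subgroup.card_top] at hc
          haveI : Fact (Nat.card G).Prime := ⟨hc.symm ▸ hp⟩
          exact hG (isCyclic_of_prime_card rfl)) (χ : G → ℂ) (Char.IsIrrCharacter.isCharacter χ.2)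
        (fun g hg' => by
          have h2 : g ∈ Codegree.kerSub χ := Codegree.mem_kerSub.mpr hg'
          rwa [kerSub_eq_bot hlin hχ1, Subgroup.mem_bot] at h2)
      rw [← hDdef, hDe] at h1
      have ht2 : 2 ≤ t := by
        by_contra hlt
        rw [show t = 1 by omega, one_mul] at hte
        omega
      have := Nat.mul_le_mul_right e ht2
      omega
    have hg0e : g₀ = e := by
      rw [hDe] at hχg
      obtain ⟨k, hk⟩ := hχg
      rcases Nat.lt_or_ge k 2 with hk2 | hk2
      · interval_cases k <;> omega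
      · have := Nat.mul_le_mul_left e hk2
        omega
    have hdeg : ∀ c, charDegree (d.exc c : G → ℂ) = e := fun c => (hall c).trans hDe
    have he2 : 2 ≤ e := by omega
    obtain ⟨hodd, hr, hPlus, -, -, -⟩ := half_block h d hε hp2e he2 hdeg
    obtain ⟨χ₁, hχ₁⟩ := Finset.card_pos.mp hr
    have h1 := Codegree.deg_dvd_card χ₁
    rw [(hPlus χ₁ hχ₁).1, hG', hg0e] at h1
    obtain ⟨k, hk⟩ := hodd
    have hc1 : Nat.Coprime (p + 1) e := Nat.coprime_of_dvd fun r hr h2 h3 => by
      have h4 : r ∣ 2 := by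
        have := Nat.dvd_sub h2 (h3.mul_left 2)
        rwa [show p + 1 - 2 * e = 2 by omega] at this
      have := (Nat.prime_dvd_prime_iff_eq hr Nat.prime_two).mp h4
      subst this
      omega
    have h2 : p + 1 ∣ q ^ b :=
      ((Nat.coprime_self_add_left).mpr (Nat.coprime_one_left p) |> fun h5 : Nat.Coprime (p + 1) p => h5).dvd_of_dvd_mul_left
        (hc1.dvd_of_dvd_mul_right h1)
    obtain ⟨m, -, hm⟩ := (Nat.dvd_prime_pow hq).mp h2
    have hq2 : q = 2 := by
      have h5 : 2 ∣ q ^ m := hm ▸ ⟨e + 1, by omega⟩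
      exact ((Nat.prime_dvd_prime_iff_eq Nat.prime_two hq).mp (Nat.prime_two.dvd_of_dvd_pow h5)).symm
    rw [hq2] at hm hG'
    refine ⟨?_, Or.inl ⟨m, hm⟩⟩
    rw [half_card h d hε hp2e he2 hdeg hnc (b := b) (by rw [hG', hg0e]; ring) hm]
    nlinarith
  · -- the degree is `p - e`
    have hDe : D + e = p := by
      rw [hε, neg_one_mul] at hDeq
      interval_cases m0 h χ <;> omega
    have ht2 : 2 ≤ t := by
      by_contra hlt
      rw [show t = 1 by omega, one_mul] at hte
      omega
    have h2e : 2 * e ≤ p - 1 := hte ▸ Nat.mul_le_mul_right e ht2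
    have hg0D : g₀ = D := by
      obtain ⟨k, hk⟩ := hχg
      rcases Nat.lt_or_ge k 2 with hk2 | hk2
      · interval_cases k <;> omega
      · have := Nat.mul_le_mul_left D hk2
        omega
    have hcount : Nat.card (Sylow p G) * e = q ^ b * D := by
      refine Nat.eq_of_mul_eq_mul_right hp.pos ?_
      rw [mul_assoc, hsyl, hG', hg0D]
      ring
    have hcop : Nat.Coprime e D := by
      refine Nat.coprime_of_dvd fun r hr h2 h3 => ?_
      have h4 : r ∣ p := hDe ▸ dvd_add h3 h2
      have := Nat.le_of_dvd he1 h2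
      have := (Nat.prime_dvd_prime_iff_eq hr hp).mp h4
      omega
    obtain ⟨c, -, hc⟩ := (Nat.dvd_prime_pow hq).mp (hcop.dvd_of_dvd_mul_right (Dvd.intro_left _ hcount))
    have hc0 : c ≠ 0 := fun h0 => by
      rw [h0, pow_zero] at hc
      omega
    have hqe : q ∣ e := hc ▸ dvd_pow_self q hc0
    have hdivq : ∀ ψ, ψ ∈ Plus h d ∨ ψ ∈ Minus h d → q ∣ charDegree (ψ : G → ℂ) := by
      intro ψ hψ
      by_contra hne
      have hlow : p - 1 ≤ charDegree (ψ : G → ℂ) ∧ ¬ p ∣ charDegree (ψ : G → ℂ) := by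
        rcases hψ with h1 | h1
        · obtain ⟨hm, hD⟩ := plus_eq h d h1
          have := Nat.mul_le_mul_left p hm
          refine ⟨by omega, fun hd' => hp.not_dvd_one ?_⟩
          exact (Nat.dvd_add_right (dvd_mul_right p (m0 h ψ))).mp (hD ▸ dvd_add hd' dvd_rfl)
        · have hD := minus_eq h d h1
          refine ⟨by omega, fun hd' => hp.not_dvd_one ?_⟩
          exact (Nat.dvd_add_right hd').mp (hD ▸ dvd_add (dvd_mul_right p (m0 h ψ)) dvd_rfl)
      have h1 := Codegree.deg_dvd_card ψ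
      rw [hG'] at h1
      have h2 : Nat.Coprime (charDegree (ψ : G → ℂ)) (p * q ^ b) :=
        ((hp.coprime_iff_not_dvd.mpr hlow.2).symm).mul_right ((hq.coprime_iff_not_dvd.mpr hne).pow_left b).symm
      have := Nat.le_of_dvd hg0 (h2.dvd_of_dvd_mul_left h1)
      omega
    have hq2 : q = 2 := by
      have hrel := rel_apply h d (g := 1) (by rw [orderOf_one]; exact hp.not_dvd_one) c₀
      simp only [← charDegree_cast, hε, hall] at hrel
      have hrel' : (-1 : ℤ) - ∑ ψ ∈ Plus h d, (charDegree (ψ : G → ℂ) : ℤ) +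
          ∑ ψ ∈ Minus h d, (charDegree (ψ : G → ℂ) : ℤ) + (-1) * (D : ℤ) = 0 := by
        apply Int.cast_injective (α := ℂ)
        push_cast at hrel ⊢
        exact hrel
      have h1 : (q : ℤ) ∣ ∑ ψ ∈ Plus h d, (charDegree (ψ : G → ℂ) : ℤ) :=
        Finset.dvd_sum fun ψ hψ => Int.natCast_dvd_natCast.mpr (hdivq ψ (Or.inl hψ))
      have h2 : (q : ℤ) ∣ ∑ ψ ∈ Minus h d, (charDegree (ψ : G → ℂ) : ℤ) :=
        Finset.dvd_sum fun ψ hψ => Int.natCast_dvd_natCast.mpr (hdivq ψ (Or.inr hψ))
      have h3 : (q : ℤ) ∣ ((p : ℤ) + 1 - e) := by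
        rw [show (p : ℤ) + 1 - e = ∑ ψ ∈ Minus h d, (charDegree (ψ : G → ℂ) : ℤ) -
          ∑ ψ ∈ Plus h d, (charDegree (ψ : G → ℂ) : ℤ) by omega]
        exact dvd_sub h2 h1
      have h4 : (q : ℤ) ∣ ((p : ℤ) - 1) := by
        have : ((p - 1 : ℕ) : ℤ) = (p : ℤ) - 1 := by omega
        rw [← this, Int.natCast_dvd_natCast]
        exact hte ▸ hqe.mul_left t
      have h5 : (q : ℤ) ∣ 2 := by
        have := dvd_sub (dvd_add h3 (Int.natCast_dvd_natCast.mpr hqe)) h4
        rwa [show (p : ℤ) + 1 - e + e - ((p : ℤ) - 1) = 2 by ring] at this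
      exact (Nat.prime_dvd_prime_iff_eq hq Nat.prime_two).mp (Int.natCast_dvd_natCast.mp (by exact_mod_cast h5))
    rw [hq2] at hG' hc
    rcases Nat.lt_or_ge c 2 with hc1 | hc2
    · have he : e = 2 := by rw [hc, show c = 1 by omega, pow_one]
      obtain ⟨m, hm, hcard⟩ := two_card h d hnc hε he (by omega) (fun c' => by rw [hall]; omega)
        (b := b) (by rw [hG', hg0D, show p - 2 = D by omega]; ring)
      refine ⟨?_, Or.inr ⟨m, by omega⟩⟩
      rw [hcard]
      exact Nat.mul_lt_mul_of_lt_of_le (by omega) (by omega) (by omega)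
    · have he4 : 4 ∣ e := hc ▸ Nat.pow_dvd_pow 2 hc2
      have hG2 : Nat.card G = 2 ^ b * (p * (p - e)) := by rw [hG', hg0D, show p - e = D by omega]; ring
      have ht := large_t h d he4 hε ht2 (fun c' => by rw [hall]; omega) hG2
      subst ht
      have hp2e : p = 2 * e + 1 := by omega
      have hodd : ¬ 2 ∣ p * (p - e) := by
        obtain ⟨ek, hek⟩ := he4
        rw [Nat.prime_two.dvd_mul]; omega
      have hdeg : ∀ c', charDegree (d.exc c' : G → ℂ) = e + 1 := fun c' => by rw [hall]; omega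
      rw [large_card h d hε hp2e (by omega) hdeg (fun ψ hψ => large_even h d (by omega) (by omega) hG2 hψ)
        hnc (b := b) hc hc2 (by rw [hG2, show p - e = e + 1 by omega])]
      refine ⟨by nlinarith, Or.inr ⟨c + 1, ?_⟩⟩
      rw [pow_succ, ← hc]
      omega

end Cfsg.Agent.BrauerTuan
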